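import Cfsg.Agent.H335.RT.Chev

/-!
# `F₄(q)`, `E₆(q)`, `E₇(q)`, `E₈(q)`, `q` even, have no `RT` set of involutions (helper335)
-/

set_option autoImplicit false
set_option linter.unusedSectionVars false

namespace Cfsg.Agent.H335.Chev

open CoxeterSystem Cfsg.Agent.ChevalleyStructure.CoxeterGeom Cfsg.Agent.Tits.Roots Cfsg.Agent.Tits.Core
  Cfsg.Agent.Tits.RootComb Cfsg.Agent.Nodes.Comb Cfsg.Agent.Nodes.Reps Cfsg.Agent.Nodes.BNOf
open Cfsg.Lie Cfsg.Agent.ChevalleyStructure Cfsg.Agent.ChevalleyStructure.Elts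
  Cfsg.Agent.ChevalleyStructure.RootVec Cfsg.Agent.ChevalleyStructure.RootVecTab
  Cfsg.Agent.ChevalleyStructure.NPerm Cfsg.Agent.ChevalleyStructure.CoxeterGeomTypes
open Cfsg.Agent.Nodes Cfsg.Agent.Nodes.RGDChev Cfsg.Agent.Nodes.Coroot Cfsg.Agent.KFacts.ChevTwo
  Cfsg.Agent.KFacts.ChevTwoTab Cfsg.Agent.KFacts.ChevTwoInst Cfsg.Agent.Nodes.OppDec
open scoped commutatorElement

universe u

variable {K : Type u} [Field K] [CharP K 2] [Finite K]

theorem type_F4 : IsType chevF4 4 CoxeterMatrix.F₄ := by simp [IsType, typeList]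
theorem type_E6 : IsType chevE6 6 CoxeterMatrix.E₆ := by simp [IsType, typeList]
theorem type_E7 : IsType chevE7 7 CoxeterMatrix.E₇ := by simp [IsType, typeList]
theorem type_E8 : IsType chevE8 8 CoxeterMatrix.E₈ := by simp [IsType, typeList]

theorem noRT_E6 (hZ : Subgroup.center ↥(chevE6.group K) = ⊥) : NoRT ↥(chevE6.group K) :=
  noRT_one type_E6 twoOK_E6 hZ (θ := 71) (nb := 15) (by decide +kernel) (by decide +kernel) (by decide +kernel)
    (by decide +kernel) (by decide +kernel) [0, 2, 3, 1, 4, 5, 3, 2, 4, 3, 1] (by decide +kernel) (by decide +kernel)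

theorem noRT_E7 (hZ : Subgroup.center ↥(chevE7.group K) = ⊥) : NoRT ↥(chevE7.group K) :=
  noRT_one type_E7 twoOK_E7 hZ (θ := 125) (nb := 47) (by decide +kernel) (by decide +kernel) (by decide +kernel)
    (by decide +kernel) (by decide +kernel) [1, 3, 4, 2, 5, 3, 6, 0, 2, 4, 5, 3, 1, 4, 3, 2, 0] (by decide +kernel)
    (by decide +kernel)

theorem noRT_E8 (hZ : Subgroup.center ↥(chevE8.group K) = ⊥) : NoRT ↥(chevE8.group K) :=
  noRT_one type_E8 twoOK_E8 hZ (θ := 239) (nb := 118) (by decide +kernel) (by decide +kernel) (by decide +kernel)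
    (by decide +kernel) (by decide +kernel)
    [6, 5, 7, 4, 3, 1, 2, 0, 3, 2, 4, 3, 1, 5, 6, 4, 5, 3, 4, 2, 0, 3, 1, 2, 3, 4, 5, 6, 7] (by decide +kernel)
    (by decide +kernel)

theorem f4_long {D : Set ↥(chevF4.group K)} (h : RT D) {t : K} (hD : E type_F4 K 47 t ∈ D) : False :=
  false_of_dom type_F4 twoOK_F4 h (θ := 47) (nb := 22) (by decide +kernel) hD (by decide +kernel) (by decide +kernel)
    (by decide +kernel) (by decide +kernel) [2, 3, 1, 0, 2, 1, 2, 3] (by decide +kernel) (by decide +kernel)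

theorem f4_short {D : Set ↥(chevF4.group K)} (h : RT D) {t : K} (hD : E type_F4 K 44 t ∈ D) : False :=
  false_of_dom type_F4 twoOK_F4 h (θ := 44) (nb := 20) (by decide +kernel) hD (by decide +kernel) (by decide +kernel)
    (by decide +kernel) (by decide +kernel) [1, 0, 2, 1, 3, 2, 1, 0] (by decide +kernel) (by decide +kernel)

/-- the case of a product of a long and a short root element -/
theorem f4_both {D : Set ↥(chevF4.group K)} (h : RT D) {t s : K} (hs : s ≠ 0)
    (hD : E type_F4 K 44 t * E type_F4 K 47 s ∈ D) : E type_F4 K 47 s ∈ D := by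
  have hfin := finite_W type_F4 (CoxeterMatrix.F₄).toCoxeterSystem
  have l44 : 44 < chevF4.nroots := by decide +kernel
  have l46 : 46 < chevF4.nroots := by decide +kernel
  have l47 : 47 < chevF4.nroots := by decide +kernel
  have l23 : 23 < chevF4.nroots := by decide +kernel
  have n1 := E_refl (K := K) type_F4 twoOK_F4 (i := 3) (by norm_num) l44 t
  have n2 := E_refl (K := K) type_F4 twoOK_F4 (i := 3) (by norm_num) l47 s
  rw [show chevF4.reflectRoot 3 44 = 44 by decide +kernel] at n1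
  rw [show chevF4.reflectRoot 3 47 = 46 by decide +kernel] at n2
  have h1 := h.conj _ hD (nel (eg type_F4 K) (sr ⟨3, by norm_num⟩))
  have h2 : nel (eg type_F4 K) (sr ⟨3, by norm_num⟩) * (E type_F4 K 44 t * E type_F4 K 47 s) *
      (nel (eg type_F4 K) (sr ⟨3, by norm_num⟩))⁻¹ = E type_F4 K 44 t * E type_F4 K 46 s := by
    rw [← n2]
    conv_rhs => rw [← n1]
    group
  rw [h2] at h1
  have c1 : E type_F4 K 44 t * E type_F4 K 47 s = E type_F4 K 47 s * E type_F4 K 44 t :=
    E_comm type_F4 twoOK_F4 l47 l44 (by decide +kernel) t s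
  have c2 : E type_F4 K 44 t * E type_F4 K 46 s = E type_F4 K 46 s * E type_F4 K 44 t :=
    E_comm type_F4 twoOK_F4 l46 l44 (by decide +kernel) t s
  have c3 : E type_F4 K 46 s * E type_F4 K 47 s = E type_F4 K 47 s * E type_F4 K 46 s :=
    E_comm type_F4 twoOK_F4 l47 l46 (by decide +kernel) s s
  have q1 := E_sq (K := K) type_F4 twoOK_F4 l44 t
  -- the product
  have h3 : E type_F4 K 44 t * E type_F4 K 47 s * (E type_F4 K 44 t * E type_F4 K 46 s) =
      E type_F4 K 46 s * E type_F4 K 47 s := by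
    calc E type_F4 K 44 t * E type_F4 K 47 s * (E type_F4 K 44 t * E type_F4 K 46 s)
        = E type_F4 K 44 t * (E type_F4 K 47 s * E type_F4 K 44 t) * E type_F4 K 46 s := by group
      _ = (E type_F4 K 44 t * E type_F4 K 44 t) * (E type_F4 K 47 s * E type_F4 K 46 s) := by rw [← c1]; group
      _ = _ := by rw [q1, one_mul, c3]
  have h4 : Commute (E type_F4 K 44 t * E type_F4 K 47 s) (E type_F4 K 44 t * E type_F4 K 46 s) := by
    have a1 : Commute (E type_F4 K 44 t) (E type_F4 K 44 t) := Commute.refl _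
    exact ((a1.mul_right c2).mul_left ((Commute.mul_right (show Commute _ _ from c1.symm)
      (show Commute _ _ from c3.symm))))
  -- the conjugate
  have r23 := isRoot_vec type_F4 (CoxeterMatrix.F₄).toCoxeterSystem l23
  have r47 := isRoot_vec type_F4 (CoxeterMatrix.F₄).toCoxeterSystem l47
  have h5 : ⁅E type_F4 K 23 1, E type_F4 K 47 s⁆ = E type_F4 K 46 s := by
    have h6 := (dat (K := K) type_F4 twoOK_F4).comm1 _ _ r23 r47
      ((cpr_eq type_F4 twoOK_F4 l47 l23).trans (by decide +kernel))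
      ((cpr_eq type_F4 twoOK_F4 l23 l47).trans (by decide +kernel)) 1 s
    have h7 : vec chevF4 4 23 + vec chevF4 4 47 = vec chevF4 4 46 := by
      funext i
      rw [Pi.add_apply, vec_apply, vec_apply, vec_apply]
      revert i
      decide +kernel
    rw [h7, one_mul] at h6
    exact h6
  have h6 : E type_F4 K 23 1 * E type_F4 K 47 s * (E type_F4 K 23 1)⁻¹ = E type_F4 K 46 s * E type_F4 K 47 s := by
    rw [← h5, commutatorElement_def]
    group
  have hne : E type_F4 K 44 t * E type_F4 K 47 s ≠ E type_F4 K 44 t * E type_F4 K 46 s := by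
    intro h7
    have h8 := mul_left_cancel h7
    rw [h8, E_sq type_F4 twoOK_F4 l46] at h6
    have h9 : E type_F4 K 46 s = 1 := by
      have : E type_F4 K 46 s = (E type_F4 K 23 1)⁻¹ * (E type_F4 K 23 1 * E type_F4 K 46 s * (E type_F4 K 23 1)⁻¹) *
        E type_F4 K 23 1 := by group
      rw [this, h6]; group
    exact (dat (K := K) type_F4 twoOK_F4).ne_one (isRoot_vec type_F4 _ l46) hs h9
  have h7 := h.mul _ hD _ h1 hne h4
  rw [h3, ← h6] at h7
  have h8 := h.conj_mem' h7 (E type_F4 K 23 1)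
  have h9 : (E type_F4 K 23 1)⁻¹ * (E type_F4 K 23 1 * E type_F4 K 47 s * (E type_F4 K 23 1)⁻¹) * E type_F4 K 23 1 =
      E type_F4 K 47 s := by group
  rwa [h9] at h8

theorem noRT_F4 (hZ : Subgroup.center ↥(chevF4.group K) = ⊥) : NoRT ↥(chevF4.group K) := by
  intro D h hne
  have hfin := finite_W type_F4 (CoxeterMatrix.F₄).toCoxeterSystem
  have S := sys (K := K) type_F4 twoOK_F4 (CoxeterMatrix.F₄).toCoxeterSystem
  have l44 : 44 < chevF4.nroots := by decide +kernel
  have l47 : 47 < chevF4.nroots := by decide +kernel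
  obtain ⟨z, hzD, hz⟩ := exists_central_U (rgd (K := K) type_F4 (CoxeterMatrix.F₄).toCoxeterSystem 2)
    (G1_eq_top type_F4 _) h hne
  have h1 := mem_star type_F4 twoOK_F4 hZ hz
  have hc : 0 ≤ carB chevF4 47 44 := by decide +kernel
  have h2 : z ∈ PP (K := K) type_F4 twoOK_F4 l44 l47 hc := by
    refine (RGD.Sup_le fun b hb => ?_ : RGD.Sup _ _ ≤ _) h1
    obtain ⟨r, hr, -, rfl⟩ := star_le type_F4 twoOK_F4 [44, 47] (by decide +kernel) hb
    intro g hg
    rcases List.mem_cons.1 hr with rfl | hr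
    · obtain ⟨t, rfl⟩ := (S.mem_X _ (isRoot_vec type_F4 _ l44) g).1 hg
      exact ⟨t, 0, by rw [E_zero type_F4 twoOK_F4 l47, mul_one]; rfl⟩
    · rw [List.mem_singleton] at hr
      subst hr
      obtain ⟨t, rfl⟩ := (S.mem_X _ (isRoot_vec type_F4 _ l47) g).1 hg
      exact ⟨0, t, by rw [E_zero type_F4 twoOK_F4 l44, one_mul]; rfl⟩
  obtain ⟨t, s, rfl⟩ := h2
  by_cases hs : s = 0
  · rw [hs, E_zero type_F4 twoOK_F4 l47, mul_one] at hzD
    exact f4_short h hzD
  · exact f4_long h (f4_both h hs hzD)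

end Cfsg.Agent.H335.Chev
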