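import Cfsg.Agent.H335.RT.Lift
import Cfsg.Agent.H118.SLTrans

/-!
# `SL_n(F)`, `F` of characteristic two, `n ≥ 4`, has no `RT` set of involutions (helper335)
-/

set_option autoImplicit false
set_option linter.unusedSectionVars false

namespace Cfsg.Agent.H335.Lin

open Matrix Cfsg.Agent.H118.SLTrans

variable {F : Type*} [Field F] [Finite F] [CharP F 2] {n : ℕ}

/-- the transvections with centre `e₀` -/
def A (i0 : Fin n) : Subgroup (SpecialLinearGroup (Fin n) F) where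
  carrier := {g | ∃ φ : Fin n → F, φ ⬝ᵥ Pi.single i0 1 = 0 ∧ g = Tr (Pi.single i0 1) φ}
  mul_mem' := by
    rintro _ _ ⟨φ, hφ, rfl⟩ ⟨ψ, hψ, rfl⟩
    exact ⟨φ + ψ, by rw [add_dotProduct, hφ, hψ, add_zero], Tr_mul hφ hψ⟩
  one_mem' := ⟨0, zero_dotProduct _, (Tr_zero _).symm⟩
  inv_mem' := by
    rintro _ ⟨φ, hφ, rfl⟩
    exact ⟨-φ, by rw [neg_dotProduct, hφ, neg_zero], (Tr_neg hφ).symm⟩

theorem isPGroup_A (i0 : Fin n) : IsPGroup 2 ↥(A (F := F) i0) := by
  rintro ⟨g, φ, hφ, rfl⟩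
  refine ⟨1, Subtype.ext ?_⟩
  change (Tr (Pi.single i0 1) φ) ^ 2 ^ 1 = 1
  rw [pow_one, pow_two, Tr_mul hφ hφ]
  have h1 : φ + φ = 0 := by
    funext i
    exact CharTwo.add_self_eq_zero _
  rw [h1, Tr_zero]

/-- an involution centralising `A` is a transvection -/
theorem eq_Tr {i0 : Fin n} (hn : ∃ b, b ≠ i0) {z : SpecialLinearGroup (Fin n) F} (hz2 : z * z = 1)
    (hz : ∀ g ∈ A i0, g * z = z * g) :
    ∃ ψ : Fin n → F, ψ ⬝ᵥ Pi.single i0 1 = 0 ∧ z = Tr (Pi.single i0 1) ψ := by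
  classical
  set M := z.1 with hM
  set e : Fin n → F := Pi.single i0 1 with he
  have key : ∀ b, b ≠ i0 → ∀ i j, M i i0 * (Pi.single b 1 : Fin n → F) j = e i * M b j := by
    intro b hb i j
    have h1 : (Pi.single b 1 : Fin n → F) ⬝ᵥ e = 0 := by
      rw [single_dotProduct, one_mul, he, Pi.single_eq_of_ne hb]
    have h2 := congrArg (fun g : SpecialLinearGroup (Fin n) F => g.1) (hz _ ⟨_, h1, rfl⟩)
    simp only [mulv] at h2
    rw [Tr_val h1, add_mul, mul_add, one_mul, mul_one, add_right_inj, vecMulVec_mul, mul_vecMulVec] at h2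
    have h3 := congrFun (congrFun h2 i) j
    rw [vecMulVec_apply, vecMulVec_apply, ← hM] at h3
    have h4 : (M *ᵥ e) i = M i i0 := by
      rw [he, mulVec_single_one]
      rfl
    have h5 : ((Pi.single b 1 : Fin n → F) ᵥ* M) j = M b j := by
      rw [single_one_vecMul]
      rfl
    rw [h4, h5] at h3
    exact h3.symm
  obtain ⟨b0, hb0⟩ := hn
  have hcol : ∀ i, i ≠ i0 → M i i0 = 0 := by
    intro i hi
    have h1 := key b0 hb0 i b0
    rwa [Pi.single_eq_same, mul_one, he, Pi.single_eq_of_ne hi, zero_mul] at h1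
  have hrow : ∀ b, b ≠ i0 → ∀ j, M b j = M i0 i0 * (Pi.single b 1 : Fin n → F) j := by
    intro b hb j
    have h1 := key b hb i0 j
    rw [he, Pi.single_eq_same, one_mul] at h1
    exact h1.symm
  have hα : M i0 i0 = 1 := by
    have h1 : M * M = 1 := congrArg (fun g : SpecialLinearGroup (Fin n) F => g.1) hz2
    have h2 := congrFun (congrFun h1 i0) i0
    rw [mul_apply, Finset.sum_eq_single i0, one_apply_eq] at h2
    · have h3 : (M i0 i0 + 1) * (M i0 i0 + 1) = 0 := by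
        have h4 : (2 : F) = 0 := CharTwo.two_eq_zero
        linear_combination h2 + (M i0 i0 + 1) * h4
      have h4 := mul_self_eq_zero.1 h3
      rwa [CharTwo.add_eq_zero] at h4
    · intro j _ hj
      rw [hcol j hj, mul_zero]
    · intro h
      exact absurd (Finset.mem_univ _) h
  have hψ : (M i0 - e) ⬝ᵥ e = 0 := by
    rw [he, dotProduct_single, Pi.sub_apply, Pi.single_eq_same, hα, sub_self, zero_mul]
  refine ⟨M i0 - e, hψ, ?_⟩
  apply slext
  ext i j
  rw [Tr_apply hψ, ← hM]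
  by_cases hi : i = i0
  · rw [hi, he, Pi.single_eq_same, one_mul, Pi.sub_apply, one_apply, Pi.single_apply]
    by_cases hj : i0 = j
    · rw [if_pos hj, if_pos hj.symm]
      ring
    · rw [if_neg hj, if_neg (Ne.symm hj)]
      ring
  · rw [hrow i hi, hα, one_mul, he, Pi.single_eq_of_ne hi, zero_mul, add_zero, one_apply, Pi.single_apply]
    by_cases hj : i = j
    · rw [if_pos hj, if_pos hj.symm]
    · rw [if_neg hj, if_neg (Ne.symm hj)]

variable [Fintype F]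

/-- an `RT` set contains all transvections -/
theorem tr_mem (hn : 3 ≤ n) {D : Set (SpecialLinearGroup (Fin n) F)} (h : RT D) (hne : D.Nonempty)
    {u φ : Fin n → F} (hu : u ≠ 0) (hφ : φ ≠ 0) (huφ : φ ⬝ᵥ u = 0) : Tr u φ ∈ D := by
  obtain ⟨T, hT⟩ := (isPGroup_A (F := F) (⟨0, by omega⟩ : Fin n)).exists_le_sylow
  obtain ⟨z, hzD, -, hz⟩ := h.exists_central T hne
  obtain ⟨ψ, hψ, rfl⟩ := eq_Tr ⟨(⟨1, by omega⟩ : Fin n), by simp⟩ (h.sq hzD) fun g hg => hz g (hT hg)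
  have hψ0 : ψ ≠ 0 := by
    rintro rfl
    exact h.ne_one hzD (Tr_zero _)
  have he0 : (Pi.single (⟨0, by omega⟩ : Fin n) 1 : Fin n → F) ≠ 0 := by
    intro h0
    have := congrFun h0 ⟨0, by omega⟩
    rw [Pi.single_eq_same] at this
    exact one_ne_zero this
  exact h.of_isConj hzD (isConj_Tr (by rwa [Fintype.card_fin]) hψ huφ he0 hψ0 hu hφ)

theorem Tr_comm {u φ v ψ : Fin n → F} (hu : φ ⬝ᵥ u = 0) (hv : ψ ⬝ᵥ v = 0) (huv : φ ⬝ᵥ v = 0)
    (hvu : ψ ⬝ᵥ u = 0) : Commute (Tr u φ) (Tr v ψ) := by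
  apply slext
  have h1 := vecMulVec_mul_self (u := u) (φ' := ψ) huv
  have h2 := vecMulVec_mul_self (u := v) (φ' := φ) hvu
  rw [mulv, mulv, Tr_val hu, Tr_val hv]
  calc (1 + vecMulVec u φ) * (1 + vecMulVec v ψ) =
      1 + vecMulVec u φ + vecMulVec v ψ + vecMulVec u φ * vecMulVec v ψ := by noncomm_ring
    _ = 1 + vecMulVec u φ + vecMulVec v ψ + vecMulVec v ψ * vecMulVec u φ := by rw [h1, h2]
    _ = (1 + vecMulVec v ψ) * (1 + vecMulVec u φ) := by noncomm_ring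

/-- **`SL_n(F)`, `n ≥ 4`** -/
theorem false_of_rt (hn : 4 ≤ n) {D : Set (SpecialLinearGroup (Fin n) F)} (h : RT D) (hne : D.Nonempty) :
    False := by
  classical
  let i0 : Fin n := ⟨0, by omega⟩
  let i1 : Fin n := ⟨1, by omega⟩
  let i2 : Fin n := ⟨2, by omega⟩
  let i3 : Fin n := ⟨3, by omega⟩
  have h01 : i0 ≠ i1 := by simp [i0, i1]
  have h02 : i0 ≠ i2 := by simp [i0, i2]
  have h03 : i0 ≠ i3 := by simp [i0, i3]
  have h12 : i1 ≠ i2 := by simp [i1, i2]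
  have h13 : i1 ≠ i3 := by simp [i1, i3]
  have h23 : i2 ≠ i3 := by simp [i2, i3]
  have hs : ∀ i j : Fin n, i ≠ j → (Pi.single i 1 : Fin n → F) ⬝ᵥ Pi.single j 1 = 0 := by
    intro i j hij
    rw [single_dotProduct, one_mul, Pi.single_eq_of_ne hij]
  have h0 : ∀ i : Fin n, (Pi.single i 1 : Fin n → F) ≠ 0 := by
    intro i h0
    have := congrFun h0 i
    rw [Pi.single_eq_same] at this
    exact one_ne_zero this
  have hD : ∀ i j : Fin n, i ≠ j → Tr (Pi.single i 1) (Pi.single j 1) ∈ D := fun i j hij =>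
    tr_mem (by omega) h hne (h0 i) (h0 j) (hs j i hij.symm)
  have h4 := h.pow_four (hD i0 i3 h03) (hD i1 i2 h12) (hD i2 i1 h12.symm)
    (Tr_comm (hs _ _ h12.symm) (hs _ _ h03.symm) (hs _ _ h02.symm) (hs _ _ h13.symm))
    (Tr_comm (hs _ _ h12) (hs _ _ h03.symm) (hs _ _ h01.symm) (hs _ _ h23.symm))
  set x : SpecialLinearGroup (Fin n) F := Tr (Pi.single i1 1) (Pi.single i2 1) with hx
  set y : SpecialLinearGroup (Fin n) F := Tr (Pi.single i2 1) (Pi.single i1 1) with hy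
  refine transv_four (F := F) (X := fun s => x.1 *ᵥ s) (Y := fun s => y.1 *ᵥ s) (p := Pi.single i1 1)
    (r := Pi.single i2 1) (fun s => (Pi.single i2 1 : Fin n → F) ⬝ᵥ s)
    (fun s => (Pi.single i1 1 : Fin n → F) ⬝ᵥ s) ?_ ?_ ?_ ?_ ?_ ?_ ?_ ?_ ?_ ?_ ?_
  · intro s t; exact dotProduct_add _ _ _
  · intro c s; exact dotProduct_smul _ _ _
  · intro s t; exact dotProduct_add _ _ _
  · intro c s; exact dotProduct_smul _ _ _
  · intro s; exact Tr_mulVec (hs _ _ h12.symm) s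
  · intro s; exact Tr_mulVec (hs _ _ h12) s
  · exact hs _ _ h12.symm
  · exact hs _ _ h12
  · rw [single_dotProduct, one_mul, Pi.single_eq_same]; exact one_ne_zero
  · rw [single_dotProduct, one_mul, Pi.single_eq_same]; exact one_ne_zero
  · have h5 : ((x * y) ^ 4).1 *ᵥ (Pi.single i1 1 : Fin n → F) = Pi.single i1 1 := by
      rw [h4]
      exact one_mulVec _
    have h6 : (x * y) ^ 4 = x * y * (x * y) * (x * y * (x * y)) := by
      rw [show 4 = 2 + 2 by norm_num, pow_add, pow_two]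
    rw [h6] at h5
    simp only [mulv, ← mulVec_mulVec] at h5
    exact h5

/-- the centre has odd order -/
theorem odd_center (hn : 3 ≤ n) : Odd (Nat.card ↥(Subgroup.center (SpecialLinearGroup (Fin n) F))) := by
  classical
  rw [← Nat.not_even_iff_odd, even_iff_two_dvd]
  intro h2
  have hp2 : Fact (Nat.Prime 2) := ⟨Nat.prime_two⟩
  obtain ⟨⟨z, hzc⟩, hz⟩ := exists_prime_orderOf_dvd_card' 2 h2
  have hz2 : z * z = 1 := by
    have h3 : (⟨z, hzc⟩ : ↥(Subgroup.center (SpecialLinearGroup (Fin n) F))) ^ 2 = 1 := by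
      rw [← hz, pow_orderOf_eq_one]
    rw [pow_two] at h3
    exact congrArg Subtype.val h3
  have hz1 : z ≠ 1 := by
    rintro rfl
    have h3 : (⟨1, hzc⟩ : ↥(Subgroup.center (SpecialLinearGroup (Fin n) F))) = 1 := rfl
    rw [h3, orderOf_one] at hz
    omega
  have hzz : ∀ g : SpecialLinearGroup (Fin n) F, g * z = z * g := fun g => Subgroup.mem_center_iff.1 hzc g
  let i0 : Fin n := ⟨0, by omega⟩
  let i1 : Fin n := ⟨1, by omega⟩
  have h01 : i0 ≠ i1 := by simp [i0, i1]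
  obtain ⟨φ, hφ, h3⟩ := eq_Tr (i0 := i0) ⟨i1, h01.symm⟩ hz2 fun g _ => hzz g
  obtain ⟨ψ, hψ, h4⟩ := eq_Tr (i0 := i1) ⟨i0, h01⟩ hz2 fun g _ => hzz g
  apply hz1
  have hφ0 : φ = 0 := by
    funext j
    have h5 : z.1 i0 j = z.1 i0 j := rfl
    nth_rewrite 1 [h3] at h5
    rw [h4, Tr_apply hφ, Tr_apply hψ, Pi.single_eq_same, Pi.single_eq_of_ne h01, one_mul, zero_mul, add_zero] at h5
    exact left_eq_add.1 h5.symm
  rw [h3, hφ0, Tr_zero]

/-- **`PSL_n(F)`, `n ≥ 4`** -/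
theorem noRT_psl (hn : 4 ≤ n) : NoRT (ProjectiveSpecialLinearGroup (Fin n) F) :=
  NoRT.quotient (fun _ h hne => false_of_rt hn h hne) _ le_rfl (odd_center (by omega))

end Cfsg.Agent.H335.Lin
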