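import Cfsg.Agent.H335.RT.Lift
import Cfsg.Agent.KFacts.TwF4.SylU

/-!
# `²F₄(q)`, `q ≥ 8` has no `RT` set of involutions (helper335)
-/

set_option autoImplicit false
set_option linter.unusedSectionVars false

namespace Cfsg.Agent.H335.TwF

open Cfsg.Agent.SplitTwo Cfsg.Agent.SplitTwo.ZS Cfsg.Agent.TitsThree.RankTwoZ Cfsg.Agent.SplitTwo.RootSysZ
open Cfsg.Agent.KFacts.TwF4 Cfsg.Agent.KFacts.TwF4.Arc Cfsg.Agent.KFacts.TwF4.Inv Cfsg.Agent.KFacts.TwF4.SylU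
open scoped commutatorElement

variable {F : Type*} [Field F] {σ : F →+* F} {G : Type*} [Group G] (S : Full σ G)

/-- `X_0 ∩ U = 1` -/
theorem X0_inf_U {x : G} (h0 : x ∈ S.XZ 0) (hU : x ∈ J S.XZ 1 8) : x = 1 := by
  have Z := S.zsys8
  by_contra hx1
  obtain ⟨v, hv, v', hv', hn⟩ := Z.mu 0 x h0 hx1
  have e8 : S.XZ (0 - 8) = S.XZ 8 := by
    have := Z.per (0 - 8)
    rw [show (0 : ℤ) - 8 + 2 * 8 = 8 by norm_num] at this
    exact this.symm
  rw [e8] at hv hv'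
  have hnU : v * x * v' ∈ J S.XZ 1 8 :=
    mul_mem (mul_mem (mem_J hv (by norm_num) le_rfl) hU) (mem_J hv' (by norm_num) le_rfl)
  have h1 : S.o 0 1 ∈ S.XZ 1 := (S.mem_XZ_odd 0 _).2 ⟨1, rfl⟩
  have h2 := S.comm_one hnU h1
  have h3 := hn.mem h1
  rw [show (2 : ℤ) * 0 - 8 - 1 = 7 - 2 * 8 by norm_num, Z.per'] at h3
  rw [commutatorElement_def] at h2
  have h4 : S.o 0 1 ∈ J S.XZ 2 7 := by
    have e : S.o 0 1 = (v * x * v' * S.o 0 1 * (v * x * v')⁻¹ * (S.o 0 1)⁻¹)⁻¹ *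
        (v * x * v' * S.o 0 1 * (v * x * v')⁻¹) := by group
    rw [e]
    exact mul_mem (inv_mem h2) (mem_J h3 (by norm_num) (by norm_num))
  exact one_ne_zero (S.o_eq_one (Z.inter 1 _ h1 (J_mono le_rfl (by norm_num) h4)))

theorem noRT_full [Finite F] [Finite G] (hF : ∃ c : Fˣ, c ≠ 1) (hR : S.R.p = 2) : NoRT G := by
  intro D h hne
  obtain ⟨P, hP⟩ := exists_sylow S hF hR
  obtain ⟨z, hzD, -, hz⟩ := h.exists_central P hne
  have hzc : z ∈ S.Zc 2 := by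
    rw [← S.centralizer_Q, Subgroup.mem_centralizer_iff]
    intro q hq
    refine (hz q ?_).eq
    rw [hP]
    exact J_mono le_rfl (by norm_num) hq
  obtain ⟨u, rfl⟩ := S.mem_Zc.1 hzc
  have h1 : S.e 1 0 u ∈ D := by
    have h2 := h.conj_mem' hzD S.rot
    have h3 : S.rot⁻¹ * S.e 2 0 u * S.rot = S.e 1 0 u := by
      have h4 := S.rot_e 1 0 u
      rw [show (1 : ZMod 8) + 1 = 2 by decide] at h4
      rw [← h4]
      group
    rwa [h3] at h2
  have h0 : S.e 0 0 u ∈ D := by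
    have h2 := h.conj_mem' h1 S.rot
    have h3 : S.rot⁻¹ * S.e 1 0 u * S.rot = S.e 0 0 u := by
      have h4 := S.rot_e 0 0 u
      rw [show (0 : ZMod 8) + 1 = 1 by decide] at h4
      rw [← h4]
      group
    rwa [h3] at h2
  have hc : Commute (S.e 0 0 u) (S.e 2 0 u) := by
    have h2 := S.e_e2 0 0 u 0 u
    rw [show (0 : ZMod 8) + 2 = 2 by decide] at h2
    exact h2
  have h5 := h.mem_sylow P hzD hz h0 hc
  rw [hP] at h5
  have h6 : S.e 0 0 u ∈ S.XZ 0 := by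
    have := S.e_mem 0 0 u
    simpa using this
  exact h.ne_one h0 (X0_inf_U S h6 h5)

/-- **`²F₄(q)`** -/
theorem noRT_twF4 {H : Type*} [Group H] [Finite H] (hH : Cfsg.Lie.Iso2F4 H) : NoRT H := by
  obtain ⟨K, iK, iK', m, hm, hK, ⟨e⟩⟩ := hH
  obtain ⟨φ, hφ⟩ := Cfsg.Agent.ChevalleyStructure.TwF4.TwistedFix.exists_rln hK
  have := Cfsg.Agent.ChevalleyStructure.TwF4.Twisted.charP_two hK
  have hfin : Finite ↥(Cfsg.Lie.twistedF4 K (2 ^ m)) := inferInstance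
  have hF : ∃ c : Kˣ, c ≠ 1 := by
    have h1 : 1 < Nat.card Kˣ := by
      rw [Nat.card_units, Nat.card_eq_fintype_card, hK]
      have : 2 ^ 3 ≤ 2 ^ (2 * m + 1) := Nat.pow_le_pow_right (by norm_num) (by omega)
      omega
    have h2 : Nontrivial Kˣ := Finite.one_lt_card_iff_nontrivial.1 h1
    exact exists_ne 1
  exact (noRT_full (Cfsg.Agent.KFacts.TwF4.Inst.full hK hφ) hF rfl).congr e.symm

end Cfsg.Agent.H335.TwF
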