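import Cfsg.Prelude.Def_LieTypeChar
import Cfsg.Prelude.Def_Spor_J2
import Cfsg.Agent.H335.RT.Lin
import Cfsg.Agent.H335.RT.Unit
import Cfsg.Agent.H335.RT.SympB
import Cfsg.Agent.H335.RT.OrthB
import Cfsg.Agent.H335.RT.Exc
import Cfsg.Agent.H335.RT.TwE
import Cfsg.Agent.H335.RT.TwF

/-!
# The groups of Lie type of characteristic two (S3126) (helper335)

`row_two` : a group of Lie type of characteristic two with trivial centre has no `RT` set or is in the list.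
-/

set_option autoImplicit false

namespace Cfsg.Agent.H335

open Cfsg

/-- the conclusion of S3126 -/
def Concl (G : Type*) [Group G] : Prop :=
    (∃ (F : Type) (_ : Field F) (_ : Fintype F), ringChar F = 2 ∧
        (Nonempty (G ≃* Matrix.ProjectiveSpecialLinearGroup (Fin 2) F) ∨ Nonempty (G ≃* Matrix.ProjectiveSpecialLinearGroup (Fin 3) F))) ∨
      (∃ (F : Type) (_ : Field F) (_ : Fintype F) (q : ℕ), Even q ∧ Fintype.card F = q ^ 2 ∧ Nonempty (G ≃* Cfsg.PSU 3 F q)) ∨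
      Cfsg.Lie.IsoSuzuki G ∨
      (∃ (K : Type) (_ : Field K) (_ : Fintype K) (q : ℕ), Even q ∧ Fintype.card K = q ^ 3 ∧ Nonempty (G ≃* ↥(Cfsg.Lie.twistedD4 K q))) ∨
      (∃ (F : Type) (_ : Field F) (_ : Fintype F) (n : ℕ), 1 < n ∧ Fintype.card F = 2 ^ n ∧ Nonempty (G ≃* ↥(Cfsg.Lie.chevG2.group F))) ∨
      Nonempty (G ≃* ↥(alternatingGroup (Fin 6))) ∨
      (∃ (F : Type) (_ : Field F) (_ : Fintype F), Fintype.card F = 9 ∧ Nonempty (G ≃* Cfsg.PSU 3 F 3)) ∨ Cfsg.Spor.IsoJ2 G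

theorem even_of_card {F : Type*} [Field F] [Fintype F] [CharP F 2] {q n : ℕ} (hF : Fintype.card F = q ^ n) : Even q := by
  obtain ⟨k, -, hk⟩ := FiniteField.card F 2
  by_contra h
  rw [Nat.not_even_iff_odd] at h
  have h1 : Odd (2 ^ (k : ℕ)) := by
    rw [← hk, hF]
    exact h.pow
  exact (Nat.not_even_iff_odd.2 h1) ((Nat.even_pow' k.ne_zero).2 even_two)

theorem center_congr {G H : Type*} [Group G] [Group H] (e : G ≃* H) (h : Subgroup.center G = ⊥) :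
    Subgroup.center H = ⊥ := by
  rw [Subgroup.eq_bot_iff_forall] at h ⊢
  intro x hx
  rw [Subgroup.mem_center_iff] at hx
  have h1 : e.symm x ∈ Subgroup.center G := by
    rw [Subgroup.mem_center_iff]
    intro g
    apply e.injective
    rw [map_mul, map_mul, e.apply_symm_apply, hx]
  have h2 := h _ h1
  rw [← e.apply_symm_apply x, h2, map_one]

/-- **The groups of Lie type of characteristic two.** -/
theorem row_two {K : Type*} [Group K] [Finite K] (hZ : Subgroup.center K = ⊥) (hK : IsLieTypeChar 2 K) :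
    NoRT K ∨ Concl K := by
  rcases hK with h | h | h | h | h | h | h | h | ⟨-, h⟩ | ⟨-, h⟩ | ⟨h, -⟩
  · obtain ⟨F, i1, i2, i3, n, hn, -, ⟨e⟩⟩ := h
    by_cases h2 : n = 2
    · subst h2
      exact Or.inr (Or.inl ⟨F, i1, i2, ringChar.eq_iff.2 i3, Or.inl ⟨e⟩⟩)
    by_cases h3 : n = 3
    · subst h3
      exact Or.inr (Or.inl ⟨F, i1, i2, ringChar.eq_iff.2 i3, Or.inr ⟨e⟩⟩)
    exact Or.inl ((Lin.noRT_psl (by omega)).congr e.symm)
  · obtain ⟨F, i1, i2, i3, m, hm, hm', ⟨e⟩⟩ := h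
    exact Or.inl ((Symp.noRT_psp hm hm').congr e.symm)
  · obtain ⟨F, i1, i2, i3, n, q, hF, hn, -, ⟨e⟩⟩ := h
    by_cases h3 : n = 3
    · subst h3
      exact Or.inr (Or.inr (Or.inl ⟨F, i1, i2, q, even_of_card hF, hF, ⟨e⟩⟩))
    exact Or.inl ((Unit.noRT_psu hF (by omega)).congr e.symm)
  · obtain ⟨F, i1, i2, i3, m, hm, hodd, ⟨e⟩⟩ := h
    exfalso
    obtain ⟨n, -, hn⟩ := FiniteField.card F 2
    rw [hn] at hodd
    exact (Nat.not_even_iff_odd.2 hodd) ((Nat.even_pow' n.ne_zero).2 even_two)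
  · obtain ⟨F, i1, i2, i3, m, hm, ⟨e⟩⟩ := h
    exact Or.inl ((Orth.noRT_plus (by omega)).congr e.symm)
  · obtain ⟨F, i1, i2, i3, m, a, b, hm, hab, ⟨e⟩⟩ := h
    exact Or.inl ((Orth.noRT_minus (by omega) hab).congr e.symm)
  · obtain ⟨F, i1, i2, i3, h⟩ := h
    rcases h with ⟨h3, ⟨e⟩⟩ | ⟨⟨e⟩⟩ | ⟨⟨e⟩⟩ | ⟨⟨e⟩⟩ | ⟨⟨e⟩⟩
    · obtain ⟨n, -, hn⟩ := FiniteField.card F 2
      refine Or.inr (Or.inr (Or.inr (Or.inr (Or.inr (Or.inl ⟨F, i1, i2, n, ?_, hn, ⟨e⟩⟩)))))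
      by_contra h4
      have h5 : (n : ℕ) = 1 := by
        have := n.pos
        omega
      rw [hn, h5] at h3
      omega
    · exact Or.inl ((Chev.noRT_F4 (center_congr e hZ)).congr e.symm)
    · exact Or.inl ((Chev.noRT_E6 (center_congr e hZ)).congr e.symm)
    · exact Or.inl ((Chev.noRT_E7 (center_congr e hZ)).congr e.symm)
    · exact Or.inl ((Chev.noRT_E8 (center_congr e hZ)).congr e.symm)
  · obtain ⟨F, i1, i2, i3, q, hq, ⟨hF, ⟨e⟩⟩ | ⟨hF, ⟨e⟩⟩⟩ := h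
    · exact Or.inl ((TwE.noRT_2E6 hq hF (center_congr e hZ)).congr e.symm)
    · exact Or.inr (Or.inr (Or.inr (Or.inr (Or.inl ⟨F, i1, i2, q, even_of_card hF, hF, ⟨e⟩⟩))))
  · exact Or.inr (Or.inr (Or.inr (Or.inl h)))
  · exact Or.inl (TwF.noRT_twF4 h)
  · exact absurd h (by norm_num)

end Cfsg.Agent.H335
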