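import Cfsg.Agent.H335.RT.Cls

/-!
# `PSL_n(3)`, `n ≥ 3` (helper335, for S3126)
-/

set_option autoImplicit false
set_option linter.unusedSectionVars false

namespace Cfsg.Agent.H335.Cls

open Subgroup Matrix Cfsg.Agent.Cit.LongBlock Cfsg.Agent.Cit.LongQuot Cfsg.Agent.Cit.LongMain Cfsg.Agent.H204.RI
  Cfsg.Agent.Cit.LongModel Cfsg.Agent.Cit.LongInst

variable {F : Type} [Field F]

theorem three_zero [Fintype F] (h : Fintype.card F = 3) : (3 : F) = 0 := three_eq_zero h

theorem two_ne {F : Type*} [Field F] (h3 : (3 : F) = 0) : (2 : F) ≠ 0 := by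
  intro h
  have : (1 : F) = 0 := by linear_combination h3 - h
  exact one_ne_zero this

/-- diagonal form of `t` -/
theorem t_diag {F : Type*} [Field F] {κ μ : Type*} [Fintype κ] [DecidableEq κ] [Fintype μ] [DecidableEq μ] :
    (fromBlocks (-1) 0 0 1 : Matrix (μ ⊕ κ) (μ ⊕ κ) F) = diagonal (Sum.elim (fun _ => -1) (fun _ => 1)) := by
  rw [← fromBlocks_diagonal]
  congr 1
  rw [← diagonal_one, diagonal_neg]

theorem false_of_psl_aux [Fintype F] (h3 : Fintype.card F = 3) {k : ℕ} (hk : 0 < k)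
    {D : Set (ProjectiveSpecialLinearGroup (Fin (2 + k)) F)} (H : Full D) : False := by
  have h30 := three_zero h3
  have h2 := two_ne h30
  let k0 : Fin k := ⟨0, hk⟩
  have : Nonempty (Fin k) := ⟨k0⟩
  have hM := slRep_model F k
  have hD : z0 (slRep F k) ∈ D := by
    refine z0_mem_D H (slRep F k) h2 h3 ?_
    obtain ⟨f⟩ := hM.toW.equiv1
    obtain ⟨e⟩ := un_empty_equiv F (Fin 2)
    exact ⟨f.trans e⟩
  -- the matrices
  let a : Fin 2 ⊕ Fin k := Sum.inl 1
  let b : Fin 2 ⊕ Fin k := Sum.inr k0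
  have hab : a ≠ b := Sum.inl_ne_inr
  let σ : Equiv.Perm (Fin 2 ⊕ Fin k) := Equiv.swap a b
  let d : Fin 2 ⊕ Fin k → F := Sum.elim (fun _ => -1) (fun _ => 1)
  let s : Fin 2 ⊕ Fin k → F := fun x => if x = Sum.inl 0 then -1 else 1
  have hsdet : (diagonal s).det = -1 := by
    rw [det_diagonal]
    simp only [s]
    rw [Finset.prod_ite_eq' Finset.univ (Sum.inl 0 : Fin 2 ⊕ Fin k) (fun _ => (-1 : F))]
    simp
  have hI : (diagonal (d ∘ σ) : Matrix _ _ F) =
      fromBlocks (diagonal ![-1, 1]) 0 0 (diagonal fun x => if x = k0 then -1 else 1) := by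
    rw [fromBlocks_diagonal]
    congr 1
    funext x
    rcases x with x | x
    · fin_cases x
      · have : σ (Sum.inl 0) = Sum.inl 0 := Equiv.swap_apply_of_ne_of_ne (by simp [a]) (by simp [b])
        simp [this, d]
      · have : σ (Sum.inl 1) = Sum.inr k0 := Equiv.swap_apply_left _ _
        simp [this, d]
    · by_cases hx : x = k0
      · subst hx
        have : σ (Sum.inr k0) = Sum.inl 1 := Equiv.swap_apply_right _ _
        simp [this, d]
      · have : σ (Sum.inr x) = Sum.inr x := Equiv.swap_apply_of_ne_of_ne (by simp [a]) (by simp [b, hx])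
        simp [this, d, hx]
  obtain ⟨c, hc⟩ := (hM (diagonal s * pm F σ)).2 ⟨by
    rw [det_mul, hsdet, pm_det, Equiv.Perm.sign_swap hab]; simp, fun t ht => absurd ht (Set.notMem_empty t)⟩
  obtain ⟨i, hi⟩ := (hM (diagonal (d ∘ σ))).2 ⟨by
    have h1 := congrArg det (pm_diag (F := F) σ d)
    rw [det_mul, det_mul, mul_comm, mul_left_inj' (by rw [pm_det, Equiv.Perm.sign_swap hab]; simp)] at h1
    rw [← h1, ← t_diag, det_fromBlocks_zero₂₁, det_one, mul_one, det_neg]
    simp, fun t ht => absurd ht (Set.notMem_empty t)⟩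
  obtain ⟨u, hu⟩ := (hM (fromBlocks !![1, 1; 0, 1] 0 0 1)).2 ⟨by
    rw [det_fromBlocks_zero₂₁, det_one, mul_one]; simp, fun t ht => absurd ht (Set.notMem_empty t)⟩
  refine finalM H.toWC (slRep F k) hD (c := c) (i := i) (u := u) ?_ 1 ?_ ?_ ?_ ?_ ?_
  · rw [hc, hi, t_diag, Matrix.mul_assoc, pm_diag, ← Matrix.mul_assoc, ← Matrix.mul_assoc, diagonal_mul_diagonal,
      diagonal_mul_diagonal]
    congr 2
    funext x
    ring
  · rw [hi, t_diag, one_smul, diagonal_mul_diagonal, diagonal_mul_diagonal]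
    congr 1
    funext x
    ring
  · rw [hu, fromBlocks_multiply, fromBlocks_multiply]
    simp
  · rw [hu, fromBlocks_multiply, fromBlocks_multiply, ← fromBlocks_one]
    simp only [Matrix.zero_mul, Matrix.mul_zero, add_zero, zero_add, Matrix.mul_one]
    congr 1
    ext i j
    fin_cases i <;> fin_cases j <;> simp [Matrix.mul_apply, Fin.sum_univ_two]
    linear_combination h30
  · intro x hx
    rw [hu] at hx
    have := congrFun (congrFun hx (Sum.inl 0)) (Sum.inl 1)
    simp at this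
  · rw [hu, hi, hI, fromBlocks_multiply, fromBlocks_multiply]
    simp only [Matrix.zero_mul, Matrix.mul_zero, add_zero, zero_add, Matrix.mul_one, Matrix.one_mul]
    congr 1
    have : (diagonal ![-1, 1] : Matrix (Fin 2) (Fin 2) F) = !![-1, 0; 0, 1] := by
      ext i j
      fin_cases i <;> fin_cases j <;> simp
    rw [this]
    ext i j
    fin_cases i <;> fin_cases j <;> simp [Matrix.mul_apply, Fin.sum_univ_two]

/-- `PSL_n(3)`, `n ≥ 3` -/
theorem false_of_psl [Fintype F] (h3 : Fintype.card F = 3) {n : ℕ} (hn : 3 ≤ n)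
    {D : Set (ProjectiveSpecialLinearGroup (Fin n) F)} (H : Full D) : False := by
  obtain ⟨k, rfl⟩ : ∃ k, n = 2 + k := ⟨n - 2, by omega⟩
  exact false_of_psl_aux h3 (by omega) H

end Cfsg.Agent.H335.Cls
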