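import Cfsg.Agent.H335.RT.ClsSL
import Cfsg.Agent.Cit.LongConj

/-!
# `PSU_n(3)`, `n ≥ 4` (helper335, for S3126)
-/

set_option autoImplicit false
set_option linter.unusedSectionVars false

namespace Cfsg.Agent.H335.Cls

open Subgroup Matrix Cfsg.Agent.Cit.LongBlock Cfsg.Agent.Cit.LongQuot Cfsg.Agent.Cit.LongMain Cfsg.Agent.H204.RI
  Cfsg.Agent.Cit.LongModel Cfsg.Agent.Cit.LongInst Cfsg.Agent.LieClassical.HermBasic Cfsg.Agent.ChevalleyStructure

variable {F : Type} [Field F] [Fintype F]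

theorem smul_map' {F : Type*} [Field F] {ι κ : Type*} (l : F) (M : Matrix ι κ F) (t : F →+* F) :
    (l • M).map t = t l • M.map t := by
  ext i j
  simp

theorem neg_map' {F : Type*} [Field F] {ι κ : Type*} (M : Matrix ι κ F) (t : F →+* F) :
    (-M).map t = -M.map t := by
  ext i j
  simp

theorem three_zero' (hF : Fintype.card F = 3 ^ 2) : (3 : F) = 0 := by
  have := FiniteField.cast_card_eq_zero F
  rw [hF] at this
  have h1 : (3 : F) ^ 2 = 0 := by exact_mod_cast this
  exact pow_eq_zero_iff (by norm_num) |>.1 h1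

/-- an element of norm `-1` -/
theorem exists_lam (hF : Fintype.card F = 3 ^ 2) : ∃ x : F, x * cj hF x = -1 := by
  obtain ⟨x, hx⟩ := exists_norm_eq hF (c := (-1 : F)) (by ring)
  exact ⟨x, hx⟩

/-- an element of order 3 of `SU_2(3)` -/
theorem exists_three (hF : Fintype.card F = 3 ^ 2) :
    ∃ P : Matrix (Fin 2) (Fin 2) F, Cond {cj hF} P ∧ P * P * P = 1 ∧ P ≠ 1 := by
  obtain ⟨e⟩ := un2_equiv hF
  set x : Un ({cj hF} : Set (F →+* F)) (Fin 2) := e.symm (SL2Hom.up 1) with hx
  have h3 : (3 : KK hF) = 0 := three_zero (card_KK hF)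
  have h1 : x * x * x = 1 := by
    rw [hx, ← map_mul, ← map_mul]
    have h := up_three h3 1
    rw [pow_succ, pow_two] at h
    rw [h, map_one]
  refine ⟨x.1.1, x.2, ?_, ?_⟩
  · have h2 : ((x * x * x : Un ({cj hF} : Set (F →+* F)) (Fin 2)).1.1 : Matrix (Fin 2) (Fin 2) F) = 1 := by
      rw [h1]; rfl
    exact h2
  · intro h2
    have h4 : x = 1 := Subtype.ext (Subtype.ext h2)
    rw [hx, map_eq_one_iff _ e.symm.injective] at h4
    exact up_ne_one one_ne_zero h4

/-- `PSU_4(3)` -/
theorem false_of_psu4 (hF : Fintype.card F = 3 ^ 2) {D : Set (PSU (2 + 2) F 3)} (H : Full D) : False := by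
  have h30 := three_zero' hF
  have h2 := two_ne h30
  have hM := suRep_model hF 2 (by norm_num)
  have : Nonempty (Fin 2) := ⟨0⟩
  have hD : z0 (suRep hF 2 (by norm_num)) ∈ D := by
    refine z0_mem_D H _ h2 (card_KK hF) ?_
    obtain ⟨f⟩ := hM.toW.equiv1
    obtain ⟨e⟩ := un2_equiv hF
    exact ⟨f.trans e⟩
  obtain ⟨l, hl⟩ := exists_lam hF
  obtain ⟨P, hP, hP3, hP1⟩ := exists_three hF
  have hPP : Cond {cj hF} (P * P) := hP.mul hP
  obtain ⟨i, hi⟩ := Cit.LongConj.Model.swap hM
  -- the conjugating element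
  set A : Matrix (Fin 2) (Fin 2) F := !![-1, 0; 0, 1] with hA
  have hAA : A * A = 1 := by
    ext i j
    fin_cases i <;> fin_cases j <;> simp [hA]
  have hAT : Aᵀ = A := by
    ext i j
    fin_cases i <;> fin_cases j <;> simp [hA]
  have hAm : A.map (cj hF) = A := by
    ext i j
    fin_cases i <;> fin_cases j <;> simp [hA]
  have h1m : (1 : Matrix (Fin 2) (Fin 2) F).map (cj hF) = 1 := Matrix.map_one _ (map_zero _) (map_one _)
  obtain ⟨c, hc⟩ := (hM (fromBlocks (l • A) (l • 1) (-(l • A)) (l • 1))).2 ⟨by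
    have hL : (fromBlocks 1 0 1 1 : Matrix (Fin 2 ⊕ Fin 2) (Fin 2 ⊕ Fin 2) F).det = 1 := by
      rw [det_fromBlocks_zero₁₂, det_one, mul_one]
    have e0 := det_mul (fromBlocks 1 0 1 1 : Matrix (Fin 2 ⊕ Fin 2) (Fin 2 ⊕ Fin 2) F)
      (fromBlocks (l • A) (l • 1) (-(l • A)) (l • 1))
    rw [hL, one_mul] at e0
    rw [← e0, fromBlocks_multiply]
    have e1 : (1 : Matrix (Fin 2) (Fin 2) F) * (l • A) + 1 * -(l • A) = 0 := by
      rw [Matrix.one_mul, Matrix.one_mul, add_neg_cancel]
    rw [e1, det_fromBlocks_zero₂₁]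
    simp only [Matrix.one_mul, Matrix.zero_mul, add_zero]
    rw [← add_smul, det_smul, det_smul, det_one, Fintype.card_fin, hA, det_fin_two_of]
    have e2 : l * l ^ 3 = -1 := hl
    linear_combination (-4) * e2 + h30, fun t ht => by
    rw [Set.mem_singleton_iff.1 ht, fromBlocks_transpose, fromBlocks_map, fromBlocks_multiply]
    rw [transpose_neg, transpose_smul, transpose_smul, transpose_one, hAT]
    rw [neg_map', smul_map', smul_map', hAm, h1m, ← fromBlocks_one]
    have e6 : (-1 : F) + -1 = 1 := by linear_combination -h30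
    congr 1
    · rw [neg_mul_neg, smul_mul_smul_comm, hl, hAA, ← add_smul, e6, one_smul]
    · rw [neg_mul, add_neg_cancel]
    · rw [mul_neg, add_neg_cancel]
    · rw [smul_mul_smul_comm, hl, Matrix.one_mul, ← add_smul, e6, one_smul]⟩
  obtain ⟨u, hu⟩ := (hM (fromBlocks P 0 0 (P * P))).2 (hP.fromBlocks hPP)
  refine finalM H.toWC (suRep hF 2 (by norm_num)) hD (c := c) (i := i) (u := u) ?_ (-1) ?_ ?_ ?_ ?_ ?_
  · rw [hc, hi, fromBlocks_multiply, fromBlocks_multiply]
    simp
  · rw [hi, fromBlocks_multiply, fromBlocks_multiply, fromBlocks_smul]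
    simp
  · rw [hu, fromBlocks_multiply, fromBlocks_multiply]
    simp
  · rw [hu, fromBlocks_multiply, fromBlocks_multiply, ← fromBlocks_one]
    simp only [Matrix.zero_mul, Matrix.mul_zero, add_zero, zero_add, hP3]
    congr 1
    calc P * P * (P * P) * (P * P) = (P * P * P) * (P * P * P) := by simp only [Matrix.mul_assoc]
      _ = 1 := by rw [hP3, Matrix.one_mul]
  · intro x hx
    rw [hu, ← fromBlocks_one, fromBlocks_smul, fromBlocks_inj] at hx
    obtain ⟨e1, -, -, e2⟩ := hx
    rw [e1] at e2 hP3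
    have e3 : (x * x) • (1 : Matrix (Fin 2) (Fin 2) F) = x • 1 := by
      rw [← e2, smul_mul_smul_comm, Matrix.one_mul]
    have e4 : x * x = x := by
      have := congrFun (congrFun e3 0) 0
      simpa using this
    have e5 : x * (x * x) = 1 := by
      have := congrFun (congrFun hP3 0) 0
      simpa using this
    apply hP1
    rw [e4, e4] at e5
    rw [e1, e5, one_smul]
  · rw [hu, hi, fromBlocks_multiply, fromBlocks_multiply]
    simp only [Matrix.zero_mul, Matrix.mul_zero, add_zero, zero_add, Matrix.mul_one]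
    congr 1
    rw [← Matrix.mul_assoc, hP3]

/-! ### `n ≥ 5` -/

/-- the index equivalence -/
def e3 (m : ℕ) : Fin (2 + (3 + m)) ≃ Fin 2 ⊕ (Fin 3 ⊕ Fin m) :=
  finSumFinEquiv.symm.trans (Equiv.sumCongr (Equiv.refl _) finSumFinEquiv.symm)

theorem t3_cond (hF : Fintype.card F = 3 ^ 2) (m : ℕ) :
    Cond {cj hF} ((fromBlocks (-1) 0 0 1 : Matrix (Fin 2 ⊕ (Fin 3 ⊕ Fin m)) (Fin 2 ⊕ (Fin 3 ⊕ Fin m)) F).submatrix
      (e3 m) (e3 m)) := by
  have h1 : Cond {cj hF} (-1 : Matrix (Fin 2) (Fin 2) F) := by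
    refine ⟨by rw [det_neg]; simp, fun t _ => ?_⟩
    ext i j
    fin_cases i <;> fin_cases j <;> simp
  exact (cond_reindex (e3 m).symm).2 (h1.fromBlocks (Cond.one _))

/-- the representation -/
def suR (hF : Fintype.card F = 3 ^ 2) (m : ℕ) : Rep (SU (2 + (3 + m)) F 3) F (Fin 3 ⊕ Fin m) :=
  mkRep (e3 m) (SU (2 + (3 + m)) F 3).subtype (SU (2 + (3 + m)) F 3).subtype_injective
    (su_cen hF (by omega)) ⟨⟨_, (t3_cond hF m).1⟩, (su_cond hF _).2 (t3_cond hF m)⟩ rfl

theorem suR_model (hF : Fintype.card F = 3 ^ 2) (m : ℕ) : Model (suR hF m) {cj hF} := by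
  refine mkRep_model _ _ _ _ _ _ _ fun A => ?_
  rw [← su_cond, Subgroup.range_subtype]

/-- `PSU_n(3)`, `n ≥ 5` -/
theorem false_of_psu5 (hF : Fintype.card F = 3 ^ 2) (m : ℕ) {D : Set (PSU (2 + (3 + m)) F 3)} (H : Full D) :
    False := by
  have h30 := three_zero' hF
  have h2 := two_ne h30
  have hM := suR_model hF m
  have : Nonempty (Fin 3 ⊕ Fin m) := ⟨Sum.inl 0⟩
  have hD : z0 (suR hF m) ∈ D := by
    refine z0_mem_D H _ h2 (card_KK hF) ?_
    obtain ⟨f⟩ := hM.toW.equiv1
    obtain ⟨e⟩ := un2_equiv hF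
    exact ⟨f.trans e⟩
  obtain ⟨l, hl⟩ := exists_lam hF
  set k := cj hF l with hk
  have hkk : cj hF k = l := by
    have := pow_q_pow_q hF l
    exact this
  -- the matrices
  let U3 : Matrix (Fin 3) (Fin 3) F := !![-1, k, 1; l, 0, l; -1, -k, 1]
  have hU3 : Cond {cj hF} U3 := by
    refine ⟨?_, fun t ht => ?_⟩
    · simp only [U3, det_fin_three]
      simp
      linear_combination (-4) * hl + h30
    · rw [Set.mem_singleton_iff.1 ht]
      have h5 : U3.map (cj hF) = !![-1, l, 1; k, 0, k; -1, -l, 1] := by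
        ext i j
        fin_cases i <;> fin_cases j <;> simp [U3, hkk, ← hk]
      rw [h5]
      ext i j
      fin_cases i <;> fin_cases j <;> simp [U3, Matrix.mul_apply, Fin.sum_univ_three]
      all_goals first
        | ring1
        | linear_combination hl
        | linear_combination -hl
        | linear_combination hl - h30
        | linear_combination -hl + h30
        | linear_combination 2 * hl - h30
        | linear_combination (-2) * hl + h30
        | linear_combination (-4) * hl + h30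
  have hUI : U3 * V1 F * U3 = V1 F := by
    ext i j
    fin_cases i <;> fin_cases j <;> simp [U3, V1, Matrix.mul_apply, Fin.sum_univ_three]
    all_goals first
      | ring1
      | linear_combination hl
      | linear_combination -hl
      | linear_combination hl - h30
      | linear_combination -hl + h30
      | linear_combination 2 * hl - h30
      | linear_combination (-2) * hl + h30
      | linear_combination (-4) * hl + h30
  have hU33 : U3 * U3 * U3 = 1 := by
    ext i j
    fin_cases i <;> fin_cases j <;> simp [U3, Matrix.mul_apply, Fin.sum_univ_three]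
    all_goals first
      | ring1
      | linear_combination hl
      | linear_combination -hl
      | linear_combination hl - h30
      | linear_combination -hl + h30
      | linear_combination 2 * hl - h30
      | linear_combination (-2) * hl + h30
      | linear_combination (-4) * hl + h30
  let a0 : Fin 2 ⊕ (Fin 3 ⊕ Fin m) := Sum.inl 0
  let a1 : Fin 2 ⊕ (Fin 3 ⊕ Fin m) := Sum.inl 1
  let b0 : Fin 2 ⊕ (Fin 3 ⊕ Fin m) := Sum.inr (Sum.inl 0)
  let b1 : Fin 2 ⊕ (Fin 3 ⊕ Fin m) := Sum.inr (Sum.inl 1)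
  let σ : Equiv.Perm (Fin 2 ⊕ (Fin 3 ⊕ Fin m)) := Equiv.swap a0 b0 * Equiv.swap a1 b1
  have hσ : Equiv.Perm.sign σ = 1 := by
    rw [map_mul, Equiv.Perm.sign_swap (by simp [a0, b0]), Equiv.Perm.sign_swap (by simp [a1, b1])]
    rfl
  let d : Fin 2 ⊕ (Fin 3 ⊕ Fin m) → F := Sum.elim (fun _ => -1) (fun _ => 1)
  have hI : (diagonal (d ∘ σ) : Matrix _ _ F) = fromBlocks 1 0 0 (fromBlocks (V1 F) 0 0 1) := by
    have hV : V1 F = diagonal ![-1, -1, 1] := by
      ext i j
      fin_cases i <;> fin_cases j <;> simp [V1]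
    rw [hV, ← diagonal_one, ← diagonal_one, fromBlocks_diagonal, fromBlocks_diagonal]
    congr 1
    funext x
    rcases x with x | x | x
    · fin_cases x <;> simp [σ, d, a0, a1, b0, b1, Equiv.swap_apply_def]
    · fin_cases x <;> simp [σ, d, a0, a1, b0, b1, Equiv.swap_apply_def]
    · simp [σ, d, a0, a1, b0, b1, Equiv.swap_apply_def]
  have hI3 : Cond {cj hF} (fromBlocks (1 : Matrix (Fin 2) (Fin 2) F) 0 0
      (fromBlocks (V1 F) 0 0 (1 : Matrix (Fin m) (Fin m) F))) :=
    (Cond.one _).fromBlocks ((cond_V1 _).fromBlocks (Cond.one _))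
  obtain ⟨c, hc⟩ := (hM (pm F σ)).2 ⟨by rw [pm_det, hσ]; simp, fun t _ => pm_unitary σ t⟩
  obtain ⟨i, hi⟩ := (hM _).2 hI3
  obtain ⟨u, hu⟩ := (hM (fromBlocks 1 0 0 (fromBlocks U3 0 0 1))).2
    ((Cond.one _).fromBlocks (hU3.fromBlocks (Cond.one _)))
  refine finalM H.toWC (suR hF m) hD (c := c) (i := i) (u := u) ?_ 1 ?_ ?_ ?_ ?_ ?_
  · rw [hc, hi, t_diag, pm_diag, ← hI]
  · rw [hi, one_smul, fromBlocks_multiply, fromBlocks_multiply]
    simp
  · rw [hu, fromBlocks_multiply, fromBlocks_multiply]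
    simp
  · rw [hu, fromBlocks_multiply, fromBlocks_multiply, ← fromBlocks_one]
    simp only [Matrix.zero_mul, Matrix.mul_zero, add_zero, zero_add, Matrix.mul_one]
    congr 1
    rw [fromBlocks_multiply, fromBlocks_multiply, ← fromBlocks_one]
    simp only [Matrix.zero_mul, Matrix.mul_zero, add_zero, zero_add, Matrix.mul_one, hU33]
  · intro x hx
    rw [hu] at hx
    have := congrFun (congrFun hx (Sum.inr (Sum.inl 0))) (Sum.inr (Sum.inl 2))
    simp [U3] at this
  · rw [hu, hi, fromBlocks_multiply, fromBlocks_multiply]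
    simp only [Matrix.zero_mul, Matrix.mul_zero, add_zero, zero_add, Matrix.mul_one]
    congr 1
    rw [fromBlocks_multiply, fromBlocks_multiply]
    simp only [Matrix.zero_mul, Matrix.mul_zero, add_zero, zero_add, Matrix.mul_one, hUI]

/-- `PSU_n(3)`, `n ≥ 4` -/
theorem false_of_psu (hF : Fintype.card F = 3 ^ 2) {n : ℕ} (hn : 4 ≤ n) {D : Set (PSU n F 3)} (H : Full D) :
    False := by
  rcases Nat.lt_or_ge n 5 with h | h
  · obtain rfl : n = 2 + 2 := by omega
    exact false_of_psu4 hF H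
  · obtain ⟨m, rfl⟩ : ∃ m, n = 2 + (3 + m) := ⟨n - 5, by omega⟩
    exact false_of_psu5 hF m H

end Cfsg.Agent.H335.Cls
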