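import Cfsg.Agent.H335.RT.ClsSL

/-!
# `PSp_{2n}(3)`, `n ≥ 2` (helper335, for S3126)
-/

set_option autoImplicit false
set_option linter.unusedSectionVars false

namespace Cfsg.Agent.H335.Cls

open Subgroup Matrix Cfsg.Agent.Cit.LongBlock Cfsg.Agent.Cit.LongQuot Cfsg.Agent.Cit.LongMain Cfsg.Agent.H204.RI
  Cfsg.Agent.Cit.LongModel Cfsg.Agent.Cit.LongInst
open Cfsg.Agent.OddHalf.NI.F1Mat (spRepG spRepG_e1 eS sp_block)

section emb

variable {F : Type} [Field F] {ι : Type} [Fintype ι] [DecidableEq ι]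

/-- `GL_n` in `Sp_{2n}` -/
def em (M N : Matrix ι ι F) (h : M * N = 1) : symplecticGroup ι F :=
  ⟨fromBlocks M 0 0 Nᵀ, by
    rw [SymplecticGroup.mem_iff, J, fromBlocks_transpose, fromBlocks_multiply, fromBlocks_multiply]
    have h' : Nᵀ * Mᵀ = 1 := by rw [← transpose_mul, h, transpose_one]
    simp [h, h']⟩

theorem em_ext {M N M' N' : Matrix ι ι F} {h : M * N = 1} {h' : M' * N' = 1} (e : M = M') : em M N h = em M' N' h' := by
  subst e
  have : N = N' := by
    calc N = (N' * M) * N := by rw [mul_eq_one_comm.1 h', Matrix.one_mul]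
      _ = N' := by rw [Matrix.mul_assoc, h, Matrix.mul_one]
  subst this
  rfl

theorem em_mul {M N M' N' : Matrix ι ι F} (h : M * N = 1) (h' : M' * N' = 1) :
    em M N h * em M' N' h' = em (M * M') (N' * N) (by
      rw [Matrix.mul_assoc, ← Matrix.mul_assoc M', h', Matrix.one_mul, h]) := by
  apply Subtype.ext
  show fromBlocks M 0 0 Nᵀ * fromBlocks M' 0 0 N'ᵀ = fromBlocks (M * M') 0 0 (N' * N)ᵀ
  rw [fromBlocks_multiply, transpose_mul]
  simp

theorem em_one : em (1 : Matrix ι ι F) 1 (Matrix.one_mul 1) = 1 := by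
  apply Subtype.ext
  show fromBlocks 1 0 0 1ᵀ = (1 : Matrix (ι ⊕ ι) (ι ⊕ ι) F)
  rw [transpose_one, fromBlocks_one]

/-- upper unipotent elements -/
def um (B : Matrix ι ι F) (h : Bᵀ = B) : symplecticGroup ι F :=
  ⟨fromBlocks 1 B 0 1, by
    rw [SymplecticGroup.mem_iff, J, fromBlocks_transpose, fromBlocks_multiply, fromBlocks_multiply]
    simp [h]⟩

end emb

section diag

variable {F : Type} [Field F] {ι : Type} [Fintype ι] [DecidableEq ι]

/-- the sign vector -/
def sg (F : Type) [Field F] (a : ι) : ι → F := fun x => if x = a then -1 else 1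

theorem sg_sq (a : ι) : diagonal (sg F a) * diagonal (sg F a) = 1 := by
  rw [diagonal_mul_diagonal, ← diagonal_one]
  congr 1
  funext x
  unfold sg
  split_ifs <;> simp

theorem sg_swap (a b : ι) : sg F a ∘ Equiv.swap a b = sg F b := by
  funext x
  unfold sg
  simp only [Function.comp]
  by_cases h : x = b
  · subst h; simp
  · rw [if_neg h, if_neg]
    intro h1
    apply h
    rwa [Equiv.swap_apply_eq_iff, Equiv.swap_apply_left] at h1

theorem diag_comm (d e : ι → F) : diagonal d * diagonal e = diagonal e * diagonal d := by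
  rw [diagonal_mul_diagonal, diagonal_mul_diagonal]
  congr 1
  funext x
  ring

theorem single_diag (a b : ι) (c : F) (d : ι → F) : single a b c * diagonal d = single a b (c * d b) := by
  ext i j
  rw [mul_diagonal, single_apply, single_apply]
  split_ifs with h
  · rw [h.2]
  · ring

theorem diag_single (a b : ι) (c : F) (d : ι → F) : diagonal d * single a b c = single a b (d a * c) := by
  ext i j
  rw [diagonal_mul, single_apply, single_apply]
  split_ifs with h
  · rw [h.1]
  · ring

theorem tv_comm {a b : ι} {d : ι → F} (h : d a = d b) :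
    transvection a b (1 : F) * diagonal d = diagonal d * transvection a b 1 := by
  rw [transvection, Matrix.add_mul, Matrix.mul_add, Matrix.one_mul, Matrix.mul_one, single_diag, diag_single, h, one_mul,
    mul_one]

theorem tv_inv {a b : ι} (hab : a ≠ b) {d : ι → F} (h : d a = -d b) :
    transvection a b (1 : F) * diagonal d * transvection a b 1 = diagonal d := by
  rw [transvection, Matrix.add_mul, Matrix.mul_add, Matrix.one_mul, Matrix.mul_one, single_diag, Matrix.add_mul,
    diag_single, single_mul_single_of_ne _ _ _ _ hab.symm, h, one_mul, mul_one, add_zero, add_assoc, ← single_add,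
    add_neg_cancel, single_zero, add_zero]

end diag

section sp

variable {F : Type} [Field F] [Fintype F]

theorem t_em (k : ℕ) : (spRepG F k).t = em (diagonal (sg F (Fin.castAdd k 0))) (diagonal (sg F (Fin.castAdd k 0)))
    (sg_sq _) := by
  apply Subtype.ext
  show (fromBlocks (-1) 0 0 1 : Matrix _ _ F).submatrix (eS k) (eS k) = fromBlocks _ 0 0 _
  ext i j
  rcases i with i | i <;> rcases j with j | j <;>
    obtain ⟨i, rfl⟩ := finSumFinEquiv.surjective i <;>
    obtain ⟨j, rfl⟩ := finSumFinEquiv.surjective j <;>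
    rcases i with i | i <;> rcases j with j | j <;>
    simp [eS, Matrix.one_apply, sg, Fin.ext_iff, diagonal_apply]
  all_goals omega

theorem z0_mem_sp (h3 : Fintype.card F = 3) {k : ℕ} (hk : 0 < k) {D : Set (Cfsg.PSp (1 + k) F)} (H : Full D) :
    pr (symplecticGroup (Fin (1 + k)) F) (em (diagonal (sg F (Fin.castAdd k 0))) (diagonal (sg F (Fin.castAdd k 0)))
      (sg_sq _)) ∈ D := by
  have : Nonempty (Fin k ⊕ Fin k) := ⟨Sum.inl ⟨0, hk⟩⟩
  have h := z0_mem_D H (spRepG F k) (two_ne (three_zero h3)) h3 (spRepG_e1 F k)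
  rwa [z0, t_em] at h

/-- `PSp_{2n}(3)`, `n ≥ 3` -/
theorem false_of_psp3 (h3 : Fintype.card F = 3) {k : ℕ} (hk : 2 ≤ k) {D : Set (Cfsg.PSp (1 + k) F)} (H : Full D) :
    False := by
  have h30 := three_zero h3
  have hD := z0_mem_sp h3 (by omega) H
  set a : Fin (1 + k) := Fin.castAdd k 0 with ha
  let b : Fin (1 + k) := ⟨1, by omega⟩
  let c : Fin (1 + k) := ⟨2, by omega⟩
  have hab : a ≠ b := by simp [ha, b, Fin.ext_iff]
  have hac : a ≠ c := by simp [ha, c, Fin.ext_iff]
  have hbc : b ≠ c := by simp [b, c]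
  have hpp : pm F (Equiv.swap a b) * pm F (Equiv.swap a b) = 1 := by
    have h1 := pm_unitary (F := F) (Equiv.swap a b) (RingHom.id F)
    have h2 : (pm F (Equiv.swap a b)).map (RingHom.id F) = pm F (Equiv.swap a b) := by
      ext i j; rfl
    have h4 : (pm F (Equiv.swap a b))ᵀ = pm F (Equiv.swap a b) := by
      ext i j
      rw [transpose_apply, pm, submatrix_apply, submatrix_apply, id, id, one_apply, one_apply]
      congr 1
      rw [Equiv.swap_apply_eq_iff, eq_iff_iff]
      exact eq_comm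
    rw [h2, h4] at h1
    exact h1
  have htt : transvection b c (1 : F) * transvection b c (-1) = 1 := by
    rw [transvection_mul_transvection_same _ _ hbc, add_neg_cancel, transvection_zero]
  refine final H.toWC hD (c := em _ _ hpp) (i := em (diagonal (sg F b)) (diagonal (sg F b)) (sg_sq _))
    (u := em _ _ htt) ?_ ?_ ?_ ?_ ?_ ?_
  · rw [em_mul, em_mul]
    apply em_ext
    rw [pm_diag, sg_swap]
  · have : em (diagonal (sg F b)) (diagonal (sg F b)) (sg_sq _) * em (diagonal (sg F a)) (diagonal (sg F a)) (sg_sq _) =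
        em (diagonal (sg F a)) (diagonal (sg F a)) (sg_sq _) * em (diagonal (sg F b)) (diagonal (sg F b)) (sg_sq _) := by
      rw [em_mul, em_mul]
      apply em_ext
      exact diag_comm _ _
    rw [this, mul_inv_cancel]
    exact one_mem _
  · rw [em_mul, em_mul]
    apply em_ext
    apply tv_comm
    rw [sg, sg, if_neg hab.symm, if_neg hac.symm]
  · rw [pow_succ, pow_two, em_mul, em_mul, ← em_one]
    apply em_ext
    rw [transvection_mul_transvection_same _ _ hbc, transvection_mul_transvection_same _ _ hbc]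
    have : (1 : F) + 1 + 1 = 0 := by linear_combination h30
    rw [this, transvection_zero]
  · intro h
    rw [LieClassical.SympCenter.mem_center_iff] at h
    obtain ⟨x, hx⟩ := h
    have := congrFun (congrFun hx (Sum.inl b)) (Sum.inl c)
    change transvection b c (1 : F) b c = _ at this
    simp [transvection, hbc] at this
  · rw [em_mul, em_mul]
    apply em_ext
    apply tv_inv hbc
    rw [sg, sg, if_pos rfl, if_neg hbc.symm]

/-- `PSp_4(3)` -/
theorem false_of_psp2 (h3 : Fintype.card F = 3) {D : Set (Cfsg.PSp (1 + 1) F)} (H : Full D) :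
    False := by
  have h30 := three_zero h3
  have hD := z0_mem_sp h3 (by omega) H
  have hd : diagonal (sg F (Fin.castAdd 1 (0 : Fin 1))) = !![-1, 0; 0, 1] := by
    ext i j
    fin_cases i <;> fin_cases j <;> simp [sg, diagonal_apply, Fin.ext_iff]
  have hs : (!![0, 1; 1, 0] : Matrix (Fin (1 + 1)) (Fin (1 + 1)) F) * !![0, 1; 1, 0] = 1 := by
    ext i j
    fin_cases i <;> fin_cases j <;> simp [Matrix.mul_apply, Fin.sum_univ_two]
  have hc : (!![1, 1; -1, 1] : Matrix (Fin (1 + 1)) (Fin (1 + 1)) F) * !![-1, 1; -1, -1] = 1 := by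
    have : (-1 : F) + -1 = 1 := by linear_combination -h30
    ext i j
    fin_cases i <;> fin_cases j <;> simp [Matrix.mul_apply, Fin.sum_univ_two, this]
  have hn : (-1 : Matrix (Fin (1 + 1)) (Fin (1 + 1)) F) * -1 = 1 := by simp
  have hB : (!![1, 0; 0, -1] : Matrix (Fin (1 + 1)) (Fin (1 + 1)) F)ᵀ = !![1, 0; 0, -1] := by
    ext i j
    fin_cases i <;> fin_cases j <;> simp
  refine final H.toWC hD (c := em _ _ hc) (i := em _ _ hs) (u := um _ hB) ?_ ?_ ?_ ?_ ?_ ?_
  · rw [em_mul, em_mul]
    apply em_ext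
    rw [hd]
    ext i j
    fin_cases i <;> fin_cases j <;> simp [Matrix.mul_apply, Fin.sum_univ_two]
  · have : em _ _ hs * em (diagonal (sg F (Fin.castAdd 1 (0 : Fin 1)))) (diagonal (sg F (Fin.castAdd 1 0))) (sg_sq _) =
        em _ _ hn * (em (diagonal (sg F (Fin.castAdd 1 (0 : Fin 1)))) (diagonal (sg F (Fin.castAdd 1 0))) (sg_sq _) *
          em _ _ hs) := by
      rw [em_mul, em_mul, em_mul]
      apply em_ext
      rw [hd]
      ext i j
      fin_cases i <;> fin_cases j <;> simp [Matrix.mul_apply, Fin.sum_univ_two]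
    rw [this, mul_inv_cancel_right, LieClassical.SympCenter.mem_center_iff]
    refine ⟨-1, ?_⟩
    show fromBlocks (-1) 0 0 (-1)ᵀ = _
    rw [transpose_neg, transpose_one, ← fromBlocks_one, fromBlocks_smul]
    simp
  · apply Subtype.ext
    show fromBlocks 1 _ 0 1 * fromBlocks _ 0 0 _ᵀ = fromBlocks _ 0 0 _ᵀ * fromBlocks 1 _ 0 1
    rw [fromBlocks_multiply, fromBlocks_multiply, hd]
    have e : (!![-1, 0; 0, 1] : Matrix (Fin (1 + 1)) (Fin (1 + 1)) F)ᵀ = !![-1, 0; 0, 1] := by
      ext i j
      fin_cases i <;> fin_cases j <;> simp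
    rw [e]
    simp
  · apply Subtype.ext
    rw [pow_succ, pow_two]
    show fromBlocks 1 _ 0 1 * fromBlocks 1 _ 0 1 * fromBlocks 1 _ 0 1 = 1
    rw [fromBlocks_multiply, fromBlocks_multiply, ← fromBlocks_one]
    have e1 : (1 : F) + (1 + 1) = 0 := by linear_combination h30
    have e2 : (-1 : F) + (-1 + -1) = 0 := by linear_combination -h30
    simp
    ext i j
    fin_cases i <;> fin_cases j <;> simp [e1, e2]
  · intro h
    rw [LieClassical.SympCenter.mem_center_iff] at h
    obtain ⟨x, hx⟩ := h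
    have := congrFun (congrFun hx (Sum.inl 0)) (Sum.inr 0)
    change (1 : F) = _ at this
    simp at this
  · apply Subtype.ext
    show fromBlocks 1 _ 0 1 * fromBlocks _ 0 0 _ᵀ * fromBlocks 1 _ 0 1 = fromBlocks _ 0 0 _ᵀ
    rw [fromBlocks_multiply, fromBlocks_multiply]
    have e : (!![0, 1; 1, 0] : Matrix (Fin (1 + 1)) (Fin (1 + 1)) F)ᵀ = !![0, 1; 1, 0] := by
      ext i j
      fin_cases i <;> fin_cases j <;> simp
    rw [e]
    simp
    ext i j
    fin_cases i <;> fin_cases j <;> simp

/-- `PSp_{2n}(3)`, `n ≥ 2` -/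
theorem false_of_psp (h3 : Fintype.card F = 3) {n : ℕ} (hn : 2 ≤ n) {D : Set (Cfsg.PSp n F)} (H : Full D) :
    False := by
  obtain ⟨k, rfl⟩ : ∃ k, n = 1 + k := ⟨n - 1, by omega⟩
  rcases Nat.lt_or_ge k 2 with hk | hk
  · obtain rfl : k = 1 := by omega
    exact false_of_psp2 h3 H
  · exact false_of_psp3 h3 hk H

end sp

end Cfsg.Agent.H335.Cls
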