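import Cfsg.Agent.H335.RT.OddAbs
import Cfsg.Agent.H557.ToralTypes
import Cfsg.Agent.OddHalf.Small.ChevCent

/-!
# `G₂(3)`, `F₄(3)`, `E₆(3)`, `E₇(3)`, `E₈(3)` have no `RT` set of involutions (helper335)
-/

set_option autoImplicit false
set_option linter.unusedSectionVars false

namespace Cfsg.Agent.H335.OddExc

open CoxeterSystem Cfsg.Agent.ChevalleyStructure.CoxeterGeom Cfsg.Agent.Tits.Roots Cfsg.Agent.Tits.Core
  Cfsg.Agent.Tits.RootComb Cfsg.Agent.Nodes.Comb Cfsg.Agent.Nodes.Reps Cfsg.Agent.Nodes.BNOf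
  Cfsg.Agent.Nodes.RGDLib Cfsg.Agent.Nodes.Bruhat
open Cfsg.Lie Cfsg.Agent.ChevalleyStructure Cfsg.Agent.ChevalleyStructure.Elts
  Cfsg.Agent.ChevalleyStructure.NPerm Cfsg.Agent.ChevalleyStructure.CoxeterGeomTypes Cfsg.Agent.Nodes.RGDChev
  Cfsg.Agent.KFacts.RgdField Cfsg.Agent.KFacts.RgdChevCoord Cfsg.Agent.OddHalf.NI.ModelChev
  Cfsg.Agent.H557.SLTwist Cfsg.Agent.H557.InvForm Cfsg.Agent.H557.Toral Cfsg.Agent.H557.ToralTypes
open Cfsg.Agent.FixBN.FieldRGD (uu vv dd ww)
open Cfsg.Agent.Cit.TypeDet.KindsEF (isTypeG)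
open scoped MatrixGroups

universe u

variable {D : ChevalleyDatum} {l : ℕ} {M : CoxeterMatrix (Fin l)} (hp : IsType D l M) {K : Type u} [Field K]
  [Fintype K]

theorem field_three (h3 : Fintype.card K = 3) : (3 : K) = 0 ∧ ∀ c : K, c ≠ 0 → c = 1 ∨ c = -1 := by
  constructor
  · have h1 : ((Fintype.card K : ℕ) : K) = 0 := FiniteField.cast_card_eq_zero K
    rw [h3] at h1
    exact_mod_cast h1
  · intro c hc
    have h1 := FiniteField.pow_card_sub_one_eq_one c hc
    rw [h3] at h1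
    have h2 : (c - 1) * (c + 1) = 0 := by linear_combination h1
    rcases mul_eq_zero.1 h2 with h4 | h4
    · exact Or.inl (sub_eq_zero.1 h4)
    · exact Or.inr (eq_neg_of_add_eq_zero_left h4)

/-- the product of an involution interchanging the root groups and a conjugate -/
theorem mat (h3 : (3 : K) = 0) (c : K) (hc : c = 1 ∨ c = -1) : ∃ k : ℕ, (vv (-c) * uu (1 : K)) ^ k =
    ww (1 : K) one_ne_zero * ww 1 one_ne_zero := by
  rcases hc with rfl | rfl
  · refine ⟨3, ?_⟩
    apply Subtype.ext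
    show (!![1, 0; -1, 1] * !![1, (1 : K); 0, 1]) ^ 3 = !![(0 : K), 1; -1⁻¹, 0] * !![(0 : K), 1; -1⁻¹, 0]
    rw [pow_succ, pow_two]
    simp only [Matrix.mul_fin_two]
    ext i j
    fin_cases i <;> fin_cases j <;> simp
  · refine ⟨2, ?_⟩
    apply Subtype.ext
    show (!![1, 0; - -1, 1] * !![1, (1 : K); 0, 1]) ^ 2 = !![(0 : K), 1; -1⁻¹, 0] * !![(0 : K), 1; -1⁻¹, 0]
    rw [pow_two]
    simp only [Matrix.mul_fin_two]
    ext i j
    fin_cases i <;> fin_cases j <;> simp <;>
      first | ring1 | linear_combination h3 | linear_combination -h3 | linear_combination 2 * h3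

/-- the square of `n_i` is not trivial -/
theorem nc_sq_ne (h2 : (2 : K) ≠ 0) {i j : Fin l} (hij : Odd (cartanOf D l i j)) : nc hp K i * nc hp K i ≠ 1 := by
  intro h
  rw [nc_mul_nc] at h
  have h1 := th_cartan hp h j
  rw [Finset.prod_eq_single i] at h1
  · rw [Pi.mulSingle_eq_same] at h1
    have h4 : ((-1 : Kˣ) : K) = -1 := by simp
    rw [h4, hij.neg_one_zpow] at h1
    apply h2
    linear_combination -h1
  · intro k _ hk
    rw [Pi.mulSingle_eq_of_ne hk]
    simp
  · intro h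
    exact absurd (Finset.mem_univ i) h

include hp in
/-- **the Chevalley groups over the field with three elements** -/
theorem noRT_type (h3 : Fintype.card K = 3) (hodd : ∀ i : Fin l, ∃ j, Odd (cartanOf D l i j))
    (hZ : Subgroup.center ↥(D.group K) = ⊥) : NoRT ↥(D.group K) := by
  obtain ⟨h30, hpm⟩ := field_three h3
  have hp3 : Fact (Nat.Prime 3) := ⟨Nat.prime_three⟩
  have hch : CharP K 3 := by
    have h1 : ringChar K ∣ 3 := by
      rw [← CharP.cast_eq_zero_iff K (ringChar K)]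
      exact_mod_cast h30
    rcases (Nat.dvd_prime Nat.prime_three).1 h1 with h2 | h2
    · exact absurd h2 (CharP.ringChar_ne_one)
    · rw [← h2]; exact ringChar.charP K
  have h2 : (2 : K) ≠ 0 := by
    intro h
    have h1 : (1 : K) = 0 := by linear_combination h30 - h
    exact one_ne_zero h1
  set cs := M.toCoxeterSystem with hcs
  have hfin : Finite M.Group := finite_W hp cs
  have R := rgd (K := K) hp cs 3
  have C := coords (K := K) hp cs 3
  refine OddAbs.noRT_rgd R (by decide) (G1_eq_top hp cs) hZ ?_ ?_ ?_ ?_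
  · intro s hs t ht
    exact Subtype.ext (Cfsg.Agent.OddHalf.Small.ChevCent.diag_comm hp.inList (Subgroup.mem_subgroupOf.1 hs)
      (Subgroup.mem_subgroupOf.1 ht))
  · intro x hx a ha b hb
    obtain ⟨a, rfl⟩ := ((C.coord x hx).mem _).1 ha
    obtain ⟨b, rfl⟩ := ((C.coord x hx).mem _).1 hb
    rw [← (C.coord x hx).add, ← (C.coord x hx).add, add_comm]
  · intro z w hz hzz i hi
    obtain ⟨c, hc, e, -⟩ := exists_theta hp 3 cs hz hzz hi
    obtain ⟨k, hk⟩ := mat h30 c (hpm c hc)
    have hzi : z⁻¹ = z := inv_eq_of_mul_eq_one_left hzz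
    refine ⟨(xc hp (sr i) 1)⁻¹, k, ?_⟩
    have h1 : z * ((xc hp (sr i) 1)⁻¹ * z * (xc hp (sr i) 1)⁻¹⁻¹) = sl hp i (vv (-c) * uu 1) := by
      have h4 : (xc hp (sr i) (1 : K))⁻¹ = xc hp (sr i) (-1) := by
        have h5 := (C.coord _ (isRoot_sr cs hp.isCartan i)).add (-1) 1
        rw [neg_add_cancel, (C.coord _ (isRoot_sr cs hp.isCartan i)).zero] at h5
        exact (eq_inv_of_mul_eq_one_left h5.symm).symm
      rw [map_mul, sl_vv, sl_uu, inv_inv, h4]
      have h5 := e (-1)
      rw [hzi, mul_neg, mul_one] at h5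
      rw [← h5]
      group
    rw [h1]
    have h4 : sl hp i (vv (-c) * uu 1) ^ k = nc hp K i * nc hp K i := by
      rw [← map_pow, hk, map_mul, sl_ww]
    refine ⟨?_, ?_, ?_⟩
    · rw [h4, nc_mul_nc]
      exact th_mem hp _
    · rw [h4]
      obtain ⟨j, hj⟩ := hodd i
      exact nc_sq_ne hp h2 hj
    · rw [mul_comm 2 k, pow_mul, h4, nc_mul_nc, ← map_pow]
      have h5 : (Pi.mulSingle i (-1) : Fin l → Kˣ) ^ 2 = 1 := by
        rw [← Pi.mulSingle_pow]
        simp
      rw [h5, map_one]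
  · intro t ht htt i hti u hu
    obtain ⟨a, rfl⟩ := ((C.coord _ (isRoot_sr cs hp.isCartan i)).mem _).1 hu
    have h1 := (C.coord _ (isRoot_sr cs hp.isCartan i)).act t ht
    have h4 := (C.coord _ (isRoot_sr cs hp.isCartan i).neg).act t ht
    have h5 := C.chi_n R.nsys i (isRoot_sr cs hp.isCartan i) ht
    rw [rep_simple_sr, hti, mul_inv_cancel_right] at h5
    rcases hpm _ ((C.coord _ (isRoot_sr cs hp.isCartan i)).chi_ne_zero ht) with h6 | h6
    · have h7 := h1 a
      rw [h6, one_mul, mul_inv_eq_iff_eq_mul] at h7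
      exact h7
    · exfalso
      obtain ⟨j, hj⟩ := hodd i
      apply nc_sq_ne hp h2 hj
      rw [h6] at h5
      have h7 : nc hp K i = xc hp (sr i) 1 * (xc hp (-sr i) (-1) * xc hp (sr i) 1) := by
        rw [← sl_ww, ww_eq, map_mul, map_mul, sl_uu, sl_vv, inv_one]
      have h8 : nc hp K i = xc hp (sr i) (-1) * (xc hp (-sr i) 1 * xc hp (sr i) (-1)) := by
        have h9 : nc hp K i = t * nc hp K i * t⁻¹ := by rw [← hti, mul_inv_cancel_right]
        rw [h9]
        conv_lhs => rw [h7]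
        have h10 : t * (xc hp (sr i) 1 * (xc hp (-sr i) (-1) * xc hp (sr i) 1)) * t⁻¹ =
            (t * xc hp (sr i) 1 * t⁻¹) * ((t * xc hp (-sr i) (-1) * t⁻¹) * (t * xc hp (sr i) 1 * t⁻¹)) := by group
        rw [h10, h1, h4, h6, h5]
        norm_num
      have h9 : nc hp K i * (xc hp (sr i) (-1) * (xc hp (-sr i) 1 * xc hp (sr i) (-1))) = 1 := by
        rw [h7]
        have e1 : xc hp (sr i) (1 : K) * xc hp (sr i) (-1) = 1 := by
          rw [← (C.coord _ (isRoot_sr cs hp.isCartan i)).add, add_neg_cancel,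
            (C.coord _ (isRoot_sr cs hp.isCartan i)).zero]
        have e2 : xc hp (-sr i) (-1 : K) * xc hp (-sr i) 1 = 1 := by
          rw [← (C.coord _ (isRoot_sr cs hp.isCartan i).neg).add, neg_add_cancel,
            (C.coord _ (isRoot_sr cs hp.isCartan i).neg).zero]
        calc xc hp (sr i) (1 : K) * (xc hp (-sr i) (-1) * xc hp (sr i) 1) *
              (xc hp (sr i) (-1) * (xc hp (-sr i) 1 * xc hp (sr i) (-1)))
            = xc hp (sr i) (1 : K) * (xc hp (-sr i) (-1) * (xc hp (sr i) 1 * xc hp (sr i) (-1)) * xc hp (-sr i) 1) *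
              xc hp (sr i) (-1) := by group
          _ = 1 := by rw [e1, mul_one, e2, mul_one, e1]
      rw [← h8] at h9
      exact h9

set_option backward.isDefEq.respectTransparency false in
theorem odd_G2 : ∀ i : Fin 2, ∃ j, Odd (cartanOf chevG2 2 i j) := by decide +kernel

set_option backward.isDefEq.respectTransparency false in
theorem odd_F4 : ∀ i : Fin 4, ∃ j, Odd (cartanOf chevF4 4 i j) := by decide +kernel

set_option backward.isDefEq.respectTransparency false in
theorem odd_E6 : ∀ i : Fin 6, ∃ j, Odd (cartanOf chevE6 6 i j) := by decide +kernel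

set_option backward.isDefEq.respectTransparency false in
theorem odd_E7 : ∀ i : Fin 7, ∃ j, Odd (cartanOf chevE7 7 i j) := by decide +kernel

set_option backward.isDefEq.respectTransparency false in
theorem odd_E8 : ∀ i : Fin 8, ∃ j, Odd (cartanOf chevE8 8 i j) := by decide +kernel

theorem noRT_G2 (h3 : Fintype.card K = 3) (hZ : Subgroup.center ↥(chevG2.group K) = ⊥) : NoRT ↥(chevG2.group K) :=
  noRT_type isTypeG h3 odd_G2 hZ

theorem noRT_F4 (h3 : Fintype.card K = 3) (hZ : Subgroup.center ↥(chevF4.group K) = ⊥) : NoRT ↥(chevF4.group K) :=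
  noRT_type Nodes.KindF.isType h3 odd_F4 hZ

theorem noRT_E6 (h3 : Fintype.card K = 3) (hZ : Subgroup.center ↥(chevE6.group K) = ⊥) : NoRT ↥(chevE6.group K) :=
  noRT_type Nodes.KindE.isType6 h3 odd_E6 hZ

theorem noRT_E7 (h3 : Fintype.card K = 3) (hZ : Subgroup.center ↥(chevE7.group K) = ⊥) : NoRT ↥(chevE7.group K) :=
  noRT_type Nodes.KindE.isType7 h3 odd_E7 hZ

theorem noRT_E8 (h3 : Fintype.card K = 3) (hZ : Subgroup.center ↥(chevE8.group K) = ⊥) : NoRT ↥(chevE8.group K) :=
  noRT_type Nodes.KindE.isType8 h3 odd_E8 hZ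

end Cfsg.Agent.H335.OddExc
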