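import Cfsg.Prelude.Def_Classification2
import Cfsg.Agent.H204.RI.Trans
import Cfsg.Agent.H335.RT.CharTwo
import Cfsg.Agent.H335.RT.OddExc
import Cfsg.Agent.H335.RT.OddTwE
import Cfsg.Agent.H335.RT.ClsSL
import Cfsg.Agent.H335.RT.ClsSp
import Cfsg.Agent.H335.RT.ClsSU
import Cfsg.Agent.H281.RT.Spor
import Cfsg.Agent.H281.RT.RowOmega
import Cfsg.Agent.H281.RT.RowL2
import Cfsg.Agent.H281.RT.RowRee
import Cfsg.Agent.OddHalf.LongSL.Rk
import Cfsg.Agent.OddTab.D4Short
import Cfsg.Agent.S0252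

/-!
# The elimination in the list of simple groups (S3126) (helper335)

`known` : a known simple group with a `Full` set is in the list.
-/

set_option autoImplicit false

namespace Cfsg.Agent.H335.Asm

open Subgroup Cfsg Cfsg.Agent.H204.RI Cfsg.Agent.H281.RT Cfsg.Agent.OddHalf.LongSL

universe u

variable {G : Type u} [Group G]

theorem rt_of_full {D : Set G} (H : Full D) : RT D :=
  ⟨H.inv, H.conj, H.two, H.cl, H.mul⟩

theorem not_noRT {D : Set G} (H : Full D) (h : NoRT G) : False := h D (rt_of_full H) H.ne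

/-- characteristic two or odd order -/
theorem char_cases (F : Type) [Field F] [Fintype F] : CharP F 2 ∨ (Odd (Fintype.card F) ∧ (2 : F) ≠ 0) := by
  obtain ⟨p, hp⟩ := CharP.exists F
  have hpp : p.Prime := (CharP.char_is_prime_or_zero F p).resolve_right (CharP.char_ne_zero_of_finite F p)
  rcases hpp.eq_two_or_odd' with rfl | ho
  · exact Or.inl hp
  · right
    have : Fact p.Prime := ⟨hpp⟩
    obtain ⟨n, -, hn⟩ := FiniteField.card F p
    have h1 : Odd (Fintype.card F) := by rw [hn]; exact ho.pow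
    exact ⟨h1, two_ne_of_odd h1⟩

theorem alt5 {G : Type*} [Group G] (e : G ≃* ↥(alternatingGroup (Fin 5))) : Concl G := by
  have h4 : Nat.card (GaloisField 2 2) = 4 := by
    rw [GaloisField.card 2 2 (by norm_num)]
    norm_num
  let _ : Fintype (GaloisField 2 2) := Fintype.ofFinite _
  have h5 : Fintype.card (GaloisField 2 2) = 4 := by rw [← Nat.card_eq_fintype_card, h4]
  obtain ⟨f⟩ := Cfsg.Agent.S0252.result (F := GaloisField 2 2) h5
  exact Or.inl ⟨GaloisField 2 2, inferInstance, inferInstance, ringChar.eq_iff.2 inferInstance, Or.inl ⟨e.trans f.symm⟩⟩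

theorem two_row [Finite G] {D : Set G} (H : Full D) (h : IsLieTypeChar 2 G) : Concl G := by
  rcases row_two H.cen h with h | h
  · exact (not_noRT H h).elim
  · exact h

theorem long_row [Finite G] {D : Set G} (H : Full D) {K : Type} [Group K] (e : G ≃* K) {q : ℕ} (hq : 3 < q)
    (h : HasLong q K) : False := H.not_long (h.of_equiv e.symm) hq

theorem three_row {K : Type} [Group K] {D : Set G} (H : Full D) (e : G ≃* K) (h : center K = ⊥ → NoRT K) : False :=
  not_noRT H ((h (center_congr e H.cen)).congr e.symm)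

/-- odd numbers greater than one are 3 or more than 3 -/
theorem three_or {q : ℕ} (ho : Odd q) (h1 : 1 < q) : q = 3 ∨ 3 < q := by
  obtain ⟨k, rfl⟩ := ho
  omega

/-- **the elimination** -/
theorem known [Finite G] (hna : ¬ IsMulCommutative G) {D : Set G} (H : Full D) (hk : IsKnownSimple' G) :
    Concl G := by
  rcases hk with h | h | h | h | h | h | h | h | h | h
  · exfalso
    apply hna
    have : Fact (Nat.card G).Prime := ⟨h⟩
    have hc : IsCyclic G := isCyclic_of_prime_card rfl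
    exact ⟨⟨fun a b => (IsCyclic.commGroup (α := G)).mul_comm a b⟩⟩
  · rcases noRT_alternating G h with ⟨⟨e⟩⟩ | h | h
    · exact alt5 e
    · exact Or.inr (Or.inr (Or.inr (Or.inr (Or.inr (Or.inl h)))))
    · exact (not_noRT H h).elim
  · obtain ⟨F, i1, i2, n, hn, hn4, ⟨e⟩⟩ := h
    rcases char_cases F with hc | ⟨ho, h2⟩
    · exact two_row H (Or.inl ⟨F, i1, i2, hc, n, hn, hn4, ⟨e⟩⟩)
    · by_cases h2 : n = 2
      · subst h2
        have h4 := hn4 rfl
        rcases row_psl_two ho (by omega) e with h | h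
        · exact (not_noRT H h).elim
        · exact h
      · rcases three_or ho Fintype.one_lt_card with h3 | h3
        · exact (Cls.false_of_psl h3 (by omega) (H.map_equiv e)).elim
        · exact (long_row H e h3 (Mat.hasLong_psl ho (by omega))).elim
  · obtain ⟨F, i1, i2, m, hm, hm3, ⟨e⟩⟩ := h
    rcases char_cases F with hc | ⟨ho, h2⟩
    · exact two_row H (Or.inr (Or.inl ⟨F, i1, i2, hc, m, hm, hm3, ⟨e⟩⟩))
    · rcases three_or ho Fintype.one_lt_card with h3 | h3
      · exact (Cls.false_of_psp h3 hm (H.map_equiv e)).elim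
      · exact (long_row H e h3 (Mat.hasLong_psp ho hm)).elim
  · obtain ⟨F, i1, i2, n, q, hF, hn, hn2, ⟨e⟩⟩ := h
    rcases char_cases F with hc | ⟨ho, h2⟩
    · exact two_row H (Or.inr (Or.inr (Or.inl ⟨F, i1, i2, hc, n, q, hF, hn, hn2, ⟨e⟩⟩)))
    · have hoq : Odd q := (Nat.odd_pow_iff two_ne_zero).1 (hF ▸ ho)
      have h1 : 1 < q := by
        rcases Nat.lt_or_ge 1 q with h | h
        · exact h
        · exfalso
          have h5 : Fintype.card F ≤ 1 := by rw [hF]; exact Nat.pow_le_one_iff two_ne_zero |>.2 h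
          have h6 : 1 < Fintype.card F := Fintype.one_lt_card
          omega
      rcases three_or hoq h1 with rfl | h3
      · rcases Nat.lt_or_ge n 4 with h4 | h4
        · obtain rfl : n = 3 := by omega
          exact Or.inr (Or.inr (Or.inr (Or.inr (Or.inr (Or.inr (Or.inl ⟨F, i1, i2, by rw [hF]; norm_num, ⟨e⟩⟩))))))
        · exact (Cls.false_of_psu hF h4 (H.map_equiv e)).elim
      · exact (long_row H e h3 (Mat.hasLong_psu hF hoq hn)).elim
  · obtain ⟨F, i1, i2, m, hm, ho, ⟨e⟩⟩ := h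
    exact (not_noRT H ((noRT_omegaOdd hm (two_ne_of_odd ho)).congr e.symm)).elim
  · obtain ⟨F, i1, i2, m, hm, ⟨e⟩⟩ := h
    rcases char_cases F with hc | ⟨ho, h2⟩
    · exact two_row H (Or.inr (Or.inr (Or.inr (Or.inr (Or.inl ⟨F, i1, i2, hc, m, hm, ⟨e⟩⟩)))))
    · exact (not_noRT H ((noRT_omegaPlus hm h2).congr e.symm)).elim
  · obtain ⟨F, i1, i2, m, a, b, hm, hab, ⟨e⟩⟩ := h
    rcases char_cases F with hc | ⟨ho, h2⟩
    · exact two_row H (Or.inr (Or.inr (Or.inr (Or.inr (Or.inr (Or.inl ⟨F, i1, i2, hc, m, a, b, hm, hab, ⟨e⟩⟩))))))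
    · exact (not_noRT H ((noRT_omegaMinus hm h2 hab).congr e.symm)).elim
  · rcases h with h | h | h | h | h | h | h | h | h | h | h
    · obtain ⟨F, i1, i2, hF, ⟨e⟩⟩ := h
      rcases char_cases F with hc | ⟨ho, h2⟩
      · exact two_row H (Or.inr (Or.inr (Or.inr (Or.inr (Or.inr (Or.inr (Or.inl ⟨F, i1, i2, hc, Or.inl ⟨hF, ⟨e⟩⟩⟩)))))))
      · rcases three_or ho Fintype.one_lt_card with h3 | h3
        · exact (three_row H e (OddExc.noRT_G2 h3)).elim
        · exact (long_row H e h3 (Chev.hasLong_G2 F ho)).elim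
    · obtain ⟨F, i1, i2, ⟨e⟩⟩ := h
      rcases char_cases F with hc | ⟨ho, h2⟩
      · exact two_row H (Or.inr (Or.inr (Or.inr (Or.inr (Or.inr (Or.inr (Or.inl ⟨F, i1, i2, hc, Or.inr (Or.inl ⟨e⟩)⟩)))))))
      · rcases three_or ho Fintype.one_lt_card with h3 | h3
        · exact (three_row H e (OddExc.noRT_F4 h3)).elim
        · exact (long_row H e h3 (Chev.hasLong_F4 F ho)).elim
    · obtain ⟨F, i1, i2, ⟨e⟩⟩ := h
      rcases char_cases F with hc | ⟨ho, h2⟩
      · exact two_row H (Or.inr (Or.inr (Or.inr (Or.inr (Or.inr (Or.inr (Or.inl ⟨F, i1, i2, hc, Or.inr (Or.inr (Or.inl ⟨e⟩))⟩)))))))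
      · rcases three_or ho Fintype.one_lt_card with h3 | h3
        · exact (three_row H e (OddExc.noRT_E6 h3)).elim
        · exact (long_row H e h3 (Chev.hasLong_E6 F ho)).elim
    · obtain ⟨F, i1, i2, ⟨e⟩⟩ := h
      rcases char_cases F with hc | ⟨ho, h2⟩
      · exact two_row H (Or.inr (Or.inr (Or.inr (Or.inr (Or.inr (Or.inr (Or.inl ⟨F, i1, i2, hc,
          Or.inr (Or.inr (Or.inr (Or.inl ⟨e⟩)))⟩)))))))
      · rcases three_or ho Fintype.one_lt_card with h3 | h3
        · exact (three_row H e (OddExc.noRT_E7 h3)).elim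
        · exact (long_row H e h3 (Chev.hasLong_E7 F ho)).elim
    · obtain ⟨F, i1, i2, ⟨e⟩⟩ := h
      rcases char_cases F with hc | ⟨ho, h2⟩
      · exact two_row H (Or.inr (Or.inr (Or.inr (Or.inr (Or.inr (Or.inr (Or.inl ⟨F, i1, i2, hc,
          Or.inr (Or.inr (Or.inr (Or.inr ⟨e⟩)))⟩)))))))
      · rcases three_or ho Fintype.one_lt_card with h3 | h3
        · exact (three_row H e (OddExc.noRT_E8 h3)).elim
        · exact (long_row H e h3 (Chev.hasLong_E8 F ho)).elim
    · obtain ⟨F, i1, i2, q, hq, hF, ⟨e⟩⟩ := h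
      rcases char_cases F with hc | ⟨ho, h2⟩
      · exact two_row H (Or.inr (Or.inr (Or.inr (Or.inr (Or.inr (Or.inr (Or.inr (Or.inl ⟨F, i1, i2, hc, q, hq,
          Or.inl ⟨hF, ⟨e⟩⟩⟩))))))))
      · have hoq : Odd q := (Nat.odd_pow_iff two_ne_zero).1 (hF ▸ ho)
        rcases three_or hoq hq.one_lt with rfl | h3
        · exact (three_row H e (OddTwE.noRT_2E6 hF)).elim
        · exact (long_row H e h3 (Tw.hasLong_E6 hq hF hoq)).elim
    · obtain ⟨F, i1, i2, q, hq, hF, ⟨e⟩⟩ := h
      rcases char_cases F with hc | ⟨ho, h2⟩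
      · exact two_row H (Or.inr (Or.inr (Or.inr (Or.inr (Or.inr (Or.inr (Or.inr (Or.inl ⟨F, i1, i2, hc, q, hq,
          Or.inr ⟨hF, ⟨e⟩⟩⟩))))))))
      · have hoq : Odd q := (Nat.odd_pow_iff (by norm_num)).1 (hF ▸ ho)
        have h3 : 3 < q ^ 3 := by
          have := hq.one_lt
          calc 3 < 2 ^ 3 := by norm_num
            _ ≤ q ^ 3 := Nat.pow_le_pow_left this 3
        exact (long_row H e h3 (OddTab.D4Short.hasLong hq hF hoq)).elim
    · exact Or.inr (Or.inr (Or.inl h))
    · exact (not_noRT H (noRT_ree h)).elim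
    · exact two_row H (Or.inr (Or.inr (Or.inr (Or.inr (Or.inr (Or.inr (Or.inr (Or.inr (Or.inr (Or.inl ⟨rfl, h⟩))))))))))
    · exact (not_noRT H (row_tits G h)).elim
  · rcases noRT_sporadic G h with h | h
    · exact Or.inr (Or.inr (Or.inr (Or.inr (Or.inr (Or.inr (Or.inr h))))))
    · exact (not_noRT H h).elim

end Cfsg.Agent.H335.Asm
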