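import Cfsg.Agent.H204.RI.LongHom
import Cfsg.Agent.OddHalf.NI.F1Mat

/-!
# Classical groups over `F₃`: the general step (helper335, for S3126)

* `z0_mem_D` : the image of `diag(-1,-1,1,…)` is in `D`;
* `final`, `finalM` : the contradiction.
-/

set_option autoImplicit false
set_option linter.unusedSectionVars false

namespace Cfsg.Agent.H335.Cls

open Subgroup Matrix Cfsg.Agent.Cit.LongBlock Cfsg.Agent.Cit.LongQuot Cfsg.Agent.Cit.LongMain Cfsg.Agent.H204.RI
open Cfsg.Agent.OddHalf.NI.F1Mat (z0_order)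

section rep

variable {Γ : Type*} [Group Γ] {F : Type*} [Field F] {κ : Type*} [Fintype κ] [DecidableEq κ]

theorem z0_mem_D [Finite Γ] {D : Set (Γ ⧸ center Γ)} (H : Full D) (R : Rep Γ F κ) [Nonempty κ] (h2 : (2 : F) ≠ 0)
    {F' : Type} [Field F'] [Fintype F'] (hF' : Fintype.card F' = 3)
    (e : Nonempty (R.E1 ≃* SpecialLinearGroup (Fin 2) F')) : z0 R ∈ D := by
  obtain ⟨e⟩ := e
  exact H.mem_of_long3 (J := D1 R) (z0_order R h2) z0_mem D1_le_CC (D1_subnormal R h2) hF' ((D1Equiv R).symm.trans e)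

/-- the contradiction -/
theorem final {D : Set (Γ ⧸ center Γ)} (h : WC D) {t : Γ} (hD : pr Γ t ∈ D) {c i u : Γ} (e1 : c * t = i * c)
    (e3 : (i * t) * (t * i)⁻¹ ∈ center Γ) (e4 : u * t = t * u) (e5 : u ^ 3 = 1) (hu1 : u ∉ center Γ)
    (e6 : u * i * u = i) : False := by
  have e2 : i = c * t * c⁻¹ := by rw [e1, mul_inv_cancel_right]
  have e7 : i * u * i⁻¹ = u⁻¹ := by
    rw [mul_inv_eq_iff_eq_mul, eq_inv_mul_iff_mul_eq, ← mul_assoc, e6]
  refine h.false_of_inv (i := pr Γ i) (x := pr Γ u) hD ?_ ?_ ?_ ?_ (n := 3) (by decide) ?_ ?_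
  · rw [e2, map_mul, map_mul, map_inv]
    exact h.conj _ hD _
  · have := pr_eq_one.2 e3
    rw [map_mul, map_inv, mul_inv_eq_one, map_mul, map_mul] at this
    exact this
  · rw [← map_mul, e4, map_mul]
  · intro h1
    exact hu1 (pr_eq_one.1 h1)
  · rw [← map_pow, e5, map_one]
  · rw [← map_inv, ← map_mul, ← map_mul, e7, map_inv]

theorem finalM {D : Set (Γ ⧸ center Γ)} (h : WC D) (R : Rep Γ F κ) (hD : z0 R ∈ D) {c i u : Γ}
    (hc : R.ρ c * fromBlocks (-1) 0 0 1 = R.ρ i * R.ρ c)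
    (s : F) (hs : R.ρ i * fromBlocks (-1) 0 0 1 = s • (fromBlocks (-1) 0 0 1 * R.ρ i))
    (hut : R.ρ u * fromBlocks (-1) 0 0 1 = fromBlocks (-1) 0 0 1 * R.ρ u)
    (hu3 : R.ρ u * R.ρ u * R.ρ u = 1) (hu1 : ∀ a : F, R.ρ u ≠ a • 1)
    (hiu : R.ρ u * R.ρ i * R.ρ u = R.ρ i) : False := by
  refine final h (t := R.t) hD (c := c) (i := i) (u := u) ?_ ?_ ?_ ?_ ?_ ?_
  · apply R.inj
    rw [map_mul, map_mul, R.t_eq, hc]
  · refine R.mem_center_of_scalar (c := s) ?_
    have e4 : R.ρ (i * R.t) = s • R.ρ (R.t * i) := by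
      rw [map_mul, map_mul, R.t_eq, hs]
    rw [map_mul, e4, smul_mul_assoc, R.ρ_mul_inv]
  · apply R.inj
    rw [map_mul, map_mul, R.t_eq, hut]
  · apply R.inj
    rw [pow_succ, pow_two, map_mul, map_mul, hu3, map_one]
  · intro h1
    obtain ⟨a, ha⟩ := R.cen u h1
    exact hu1 a ha
  · apply R.inj
    rw [map_mul, map_mul, hiu]

end rep

section perm

variable {F : Type*} [Field F] {ι : Type*} [Fintype ι] [DecidableEq ι]

/-- the permutation matrix -/
def pm (F : Type*) [Field F] (σ : Equiv.Perm ι) : Matrix ι ι F := (1 : Matrix ι ι F).submatrix σ id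

theorem pm_det (σ : Equiv.Perm ι) : (pm F σ).det = Equiv.Perm.sign σ := by
  rw [pm, det_permute, det_one, mul_one]

theorem pm_diag (σ : Equiv.Perm ι) (d : ι → F) : pm F σ * diagonal d = diagonal (d ∘ σ) * pm F σ := by
  ext i j
  rw [mul_diagonal, diagonal_mul, pm, submatrix_apply, id, one_apply, Function.comp]
  split_ifs with h
  · rw [h]; ring
  · ring

theorem pm_unitary (σ : Equiv.Perm ι) (t : F →+* F) : (pm F σ)ᵀ * (pm F σ).map t = 1 := by
  have e1 : (pm F σ).map t = (1 : Matrix ι ι F).submatrix σ id := by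
    rw [pm, ← submatrix_map, Matrix.map_one t (map_zero t) (map_one t)]
  have e2 : (pm F σ)ᵀ = (1 : Matrix ι ι F).submatrix id σ := by
    rw [pm, transpose_submatrix, transpose_one]
  rw [e1, e2, submatrix_mul_equiv (1 : Matrix ι ι F) (1 : Matrix ι ι F) id σ id, Matrix.one_mul]
  rfl

end perm

end Cfsg.Agent.H335.Cls
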