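import Cfsg.Agent.H335.RT.Lift
import Cfsg.Agent.LieClassical.SympTransvection

/-!
# `Sp_{2m}(F)`, `F` of characteristic two, has no `RT` set of involutions (helper335)

(`m ≥ 3`, or `m = 2` and `|F| > 2`.)
-/

set_option autoImplicit false
set_option linter.unusedSectionVars false

namespace Cfsg.Agent.H335.Symp

open Matrix Cfsg.Agent.LieClassical.SympTransvection

variable {F : Type*} [Field F] [CharP F 2] {m : ℕ}

theorem sext {A B : symplecticGroup (Fin m) F} (h : A.1 = B.1) : A = B := Subtype.ext h

theorem two : (2 : F) = 0 := CharTwo.two_eq_zero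

theorem neg_eq {n : Type*} (M : Matrix n n F) : -M = M := by
  ext i j
  exact CharTwo.neg_eq _

theorem add_self' {n : Type*} (M : Matrix n n F) : M + M = 0 := by
  ext i j
  exact CharTwo.add_self_eq_zero _

theorem J_eq : J (Fin m) F = fromBlocks 0 1 1 0 := by
  unfold J
  rw [neg_eq]

/-- `[1 S; 0 1]` -/
def U (S : Matrix (Fin m) (Fin m) F) (hS : Sᵀ = S) : symplecticGroup (Fin m) F :=
  ⟨fromBlocks 1 S 0 1, by
    rw [SymplecticGroup.mem_iff, J_eq, fromBlocks_transpose, fromBlocks_multiply, fromBlocks_multiply]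
    simp only [transpose_one, transpose_zero, hS, mul_zero, mul_one, zero_mul, one_mul, zero_add, add_zero]
    rw [add_self']⟩

theorem coe_U (S : Matrix (Fin m) (Fin m) F) (hS : Sᵀ = S) : (U S hS).1 = fromBlocks 1 S 0 1 := rfl

/-- `[P 0; 0 P⁻ᵀ]` -/
def L (P P' : Matrix (Fin m) (Fin m) F) (h : P * P' = 1) : symplecticGroup (Fin m) F :=
  ⟨fromBlocks P 0 0 P'ᵀ, by
    have h' : P' * P = 1 := mul_eq_one_comm.1 h
    have h1 : P'ᵀ * Pᵀ = 1 := by rw [← transpose_mul, h, transpose_one]
    rw [SymplecticGroup.mem_iff, J_eq, fromBlocks_transpose, fromBlocks_multiply, fromBlocks_multiply]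
    simp only [transpose_zero, transpose_transpose, mul_zero, mul_one, zero_mul, zero_add, add_zero, h, h1]⟩

theorem coe_L (P P' : Matrix (Fin m) (Fin m) F) (h : P * P' = 1) : (L P P' h).1 = fromBlocks P 0 0 P'ᵀ := rfl

theorem mulv (A B : symplecticGroup (Fin m) F) : (A * B).1 = A.1 * B.1 := rfl

theorem U_mul (S T : Matrix (Fin m) (Fin m) F) (hS : Sᵀ = S) (hT : Tᵀ = T) :
    U S hS * U T hT = U (S + T) (by rw [transpose_add, hS, hT]) := by
  apply sext
  rw [mulv, coe_U, coe_U, coe_U, fromBlocks_multiply]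
  simp [add_comm]

theorem U_zero : U (0 : Matrix (Fin m) (Fin m) F) transpose_zero = 1 := by
  apply sext
  rw [coe_U]
  exact fromBlocks_one

theorem L_conj (P P' S : Matrix (Fin m) (Fin m) F) (h : P * P' = 1) (hS : Sᵀ = S)
    (hS' : (P * S * Pᵀ)ᵀ = P * S * Pᵀ) : L P P' h * U S hS * (L P P' h)⁻¹ = U (P * S * Pᵀ) hS' := by
  rw [mul_inv_eq_iff_eq_mul]
  apply sext
  have h1 : Pᵀ * P'ᵀ = 1 := by rw [← transpose_mul, mul_eq_one_comm.1 h, transpose_one]
  rw [mulv, mulv, coe_U, coe_U, coe_L, fromBlocks_multiply, fromBlocks_multiply]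
  simp only [mul_zero, mul_one, zero_mul, one_mul, zero_add, add_zero]
  rw [mul_assoc (P * S), h1, mul_one]

/-- the group of the `[1 S; 0 1]` -/
def A : Subgroup (symplecticGroup (Fin m) F) where
  carrier := {g | ∃ S hS, g = U S hS}
  mul_mem' := by
    rintro _ _ ⟨S, hS, rfl⟩ ⟨T, hT, rfl⟩
    exact ⟨_, _, U_mul S T hS hT⟩
  one_mem' := ⟨0, transpose_zero, U_zero.symm⟩
  inv_mem' := by
    rintro _ ⟨S, hS, rfl⟩
    refine ⟨S, hS, ?_⟩
    rw [inv_eq_iff_mul_eq_one, U_mul]
    apply sext
    rw [coe_U, add_self']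
    exact fromBlocks_one

theorem isPGroup_A : IsPGroup 2 ↥(A (F := F) (m := m)) := by
  rintro ⟨g, S, hS, rfl⟩
  refine ⟨1, Subtype.ext ?_⟩
  change (U S hS) ^ 2 ^ 1 = 1
  rw [pow_one, pow_two, U_mul]
  apply sext
  rw [coe_U, add_self']
  exact fromBlocks_one

/-- an involution centralising `A` lies in `A` -/
theorem eq_U (hm : 2 ≤ m) {z : symplecticGroup (Fin m) F} (hz2 : z * z = 1)
    (hz : ∀ g ∈ A, g * z = z * g) : ∃ S hS, z = U S hS := by
  classical
  obtain ⟨M, hM⟩ := z
  obtain ⟨a, b, c, d, rfl⟩ : ∃ a b c d : Matrix (Fin m) (Fin m) F, M = fromBlocks a b c d :=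
    ⟨_, _, _, _, (fromBlocks_toBlocks M).symm⟩
  have key : ∀ S : Matrix (Fin m) (Fin m) F, Sᵀ = S → S * c = 0 ∧ S * d = a * S ∧ c * S = 0 := by
    intro S hS
    have h1 := congrArg (fun g : symplecticGroup (Fin m) F => g.1) (hz _ ⟨S, hS, rfl⟩)
    simp only [mulv, coe_U] at h1
    rw [fromBlocks_multiply, fromBlocks_multiply, fromBlocks_inj] at h1
    simp only [one_mul, mul_one, zero_mul, mul_zero, zero_add, add_zero] at h1
    obtain ⟨h2, h3, -, h4⟩ := h1
    refine ⟨?_, ?_, ?_⟩
    · exact left_eq_add.1 h2.symm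
    · rw [add_comm b] at h3
      exact add_right_cancel h3
    · exact (right_eq_add.1 h4)
  obtain ⟨h1, h2, -⟩ := key 1 transpose_one
  rw [one_mul] at h1 h2
  rw [mul_one] at h2
  subst h1
  subst h2
  -- `d` is scalar
  have hsc : ∀ i j, i ≠ j → d i j = 0 ∧ d i i = d j j := by
    intro i j hij
    have h3 : (single i j 1 + single j i 1 : Matrix (Fin m) (Fin m) F)ᵀ = single i j 1 + single j i 1 := by
      rw [transpose_add, transpose_single, transpose_single, add_comm]
    have h4 := (key _ h3).2.1
    have h5 : (single i i 1 : Matrix (Fin m) (Fin m) F)ᵀ = single i i 1 := transpose_single _ _ _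
    have h6 := (key _ h5).2.1
    constructor
    · have h7 := congrFun (congrFun h6 i) j
      rw [single_mul_apply_same, one_mul, mul_single_apply_of_ne _ _ _ _ _ hij.symm] at h7
      exact h7
    · have h7 := congrFun (congrFun h4 i) j
      rw [add_mul, mul_add, Matrix.add_apply, Matrix.add_apply, single_mul_apply_same, one_mul,
        single_mul_apply_of_ne _ _ _ _ _ hij, mul_single_apply_same, mul_one,
        mul_single_apply_of_ne _ _ _ _ _ hij.symm, add_zero, add_zero] at h7
      exact h7.symm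
  have hd : ∀ i j, d i j = d ⟨0, by omega⟩ ⟨0, by omega⟩ * (1 : Matrix (Fin m) (Fin m) F) i j := by
    intro i j
    by_cases hij : i = j
    · subst hij
      rw [one_apply_eq, mul_one]
      by_cases hi : i = ⟨0, by omega⟩
      · rw [hi]
      · exact (hsc _ _ hi).2
    · rw [one_apply_ne hij, mul_zero]
      exact (hsc _ _ hij).1
  have h3 : d * d = 1 := by
    have h4 := congrArg (fun g : symplecticGroup (Fin m) F => g.1) hz2
    simp only [mulv] at h4
    rw [fromBlocks_multiply] at h4
    have h5 : (1 : symplecticGroup (Fin m) F).1 = fromBlocks 1 0 0 1 := fromBlocks_one.symm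
    rw [h5, fromBlocks_inj] at h4
    simp only [mul_zero, zero_mul, add_zero, zero_add] at h4
    exact h4.1
  have hα : d ⟨0, by omega⟩ ⟨0, by omega⟩ = 1 := by
    have h4 := congrFun (congrFun h3 ⟨0, by omega⟩) ⟨0, by omega⟩
    rw [mul_apply, Finset.sum_eq_single ⟨0, by omega⟩, one_apply_eq] at h4
    · have h5 : (d ⟨0, by omega⟩ ⟨0, by omega⟩ + 1) * (d ⟨0, by omega⟩ ⟨0, by omega⟩ + 1) = 0 := by
        linear_combination h4 + (d ⟨0, by omega⟩ ⟨0, by omega⟩ + 1) * (two (F := F))
      have h6 := mul_self_eq_zero.1 h5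
      rwa [CharTwo.add_eq_zero] at h6
    · intro j _ hj
      rw [(hsc _ _ hj).1, mul_zero]
    · intro h
      exact absurd (Finset.mem_univ _) h
  have hd1 : d = 1 := by
    ext i j
    rw [hd i j, hα, one_mul]
  subst hd1
  have hb : bᵀ = b := by
    have h4 := SymplecticGroup.mem_iff.1 hM
    rw [J_eq, fromBlocks_transpose, fromBlocks_multiply, fromBlocks_multiply, fromBlocks_inj] at h4
    simp only [transpose_one, transpose_zero, mul_zero, mul_one, zero_mul, one_mul, zero_add, add_zero] at h4
    have h5 := h4.1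
    rw [← neg_eq bᵀ, neg_eq_iff_add_eq_zero, add_comm]
    exact h5
  exact ⟨b, hb, rfl⟩

/-- `S = 0` or `[1 S; 0 1] ∈ D` -/
def DS (D : Set (symplecticGroup (Fin m) F)) (S : Matrix (Fin m) (Fin m) F) : Prop :=
  ∃ hS : Sᵀ = S, S = 0 ∨ U S hS ∈ D

theorem U_congr {S T : Matrix (Fin m) (Fin m) F} (h : S = T) (hS : Sᵀ = S) (hT : Tᵀ = T) : U S hS = U T hT := by
  subst h; rfl

theorem DS.add [Finite F] {D : Set (symplecticGroup (Fin m) F)} (h : RT D) {S T : Matrix (Fin m) (Fin m) F}
    (hS : DS D S) (hT : DS D T) : DS D (S + T) := by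
  obtain ⟨hS', hS⟩ := hS
  obtain ⟨hT', hT⟩ := hT
  refine ⟨by rw [transpose_add, hS', hT'], ?_⟩
  rcases hS with rfl | hS
  · rcases hT with rfl | hT
    · left; rw [add_zero]
    · right
      rw [U_congr (zero_add T) _ hT']
      exact hT
  · rcases hT with rfl | hT
    · right
      rw [U_congr (add_zero S) _ hS']
      exact hS
    · by_cases hST : S = T
      · left; rw [hST, add_self']
      · right
        rw [← U_mul S T hS' hT']
        refine h.mul _ hS _ hT ?_ ?_
        · intro h1
          apply hST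
          have h2 := congrArg (fun g : symplecticGroup (Fin m) F => g.1) h1
          simp only [coe_U, fromBlocks_inj] at h2
          exact h2.2.1
        · change U S hS' * U T hT' = U T hT' * U S hS'
          rw [U_mul, U_mul, U_congr (add_comm S T)]

theorem DS.congr [Finite F] {D : Set (symplecticGroup (Fin m) F)} (h : RT D) {S : Matrix (Fin m) (Fin m) F}
    (hS : DS D S) (P P' : Matrix (Fin m) (Fin m) F) (hP : P * P' = 1) : DS D (P * S * Pᵀ) := by
  obtain ⟨hS', hS⟩ := hS
  have h1 : (P * S * Pᵀ)ᵀ = P * S * Pᵀ := by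
    rw [transpose_mul, transpose_mul, transpose_transpose, hS', ← mul_assoc]
  refine ⟨h1, ?_⟩
  rcases hS with rfl | hS
  · left; rw [mul_zero, zero_mul]
  · right
    rw [← L_conj P P' S hP hS' h1]
    exact h.conj _ hS _

theorem el_mul (i j : Fin m) (hij : i ≠ j) (c : F) :
    (1 + single i j c : Matrix (Fin m) (Fin m) F) * (1 + single i j c) = 1 := by
  rw [add_mul, mul_add, mul_add, one_mul, mul_one, one_mul, single_mul_single_of_ne _ _ _ _ hij.symm, add_zero,
    add_assoc, add_self', add_zero]

/-- the elementary operation -/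
theorem DS.el [Finite F] {D : Set (symplecticGroup (Fin m) F)} (h : RT D) {S : Matrix (Fin m) (Fin m) F}
    (hS : DS D S) (i j : Fin m) (hij : i ≠ j) :
    DS D (single i j 1 * S + S * single j i 1 + single i j 1 * S * single j i 1) := by
  have h1 := hS.congr h _ _ (el_mul i j hij (1 : F))
  have h2 := DS.add h hS h1
  have h3 : S + (1 + single i j 1) * S * (1 + single i j 1 : Matrix (Fin m) (Fin m) F)ᵀ =
      single i j 1 * S + S * single j i 1 + single i j 1 * S * single j i 1 := by
    rw [transpose_add, transpose_one, transpose_single, add_mul, one_mul, mul_add, mul_one, add_mul]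
    have h4 : S + (S + single i j 1 * S + (S * single j i 1 + single i j 1 * S * single j i 1)) =
        (S + S) + (single i j 1 * S + S * single j i 1 + single i j 1 * S * single j i 1) := by abel
    rw [h4, add_self', zero_add]
  rwa [h3] at h2

/-- two elementary operations -/
theorem DS.el_el [Finite F] {D : Set (symplecticGroup (Fin m) F)} (h : RT D) {S : Matrix (Fin m) (Fin m) F}
    (hS : DS D S) {i j k l : Fin m} (hij : i ≠ j) (hik : i ≠ k) (hlk : l ≠ k) :
    DS D (single l i (S k j) + single i l (S k j)) := by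
  have h1 := hS.el h i j hij
  have h2 := h1.el h l k hlk
  have hsym := hS.1
  set T : Matrix (Fin m) (Fin m) F := single i j 1 * S + S * single j i 1 + single i j 1 * S * single j i 1 with hT
  have hTk : ∀ b, T k b = if b = i then S k j else 0 := by
    intro b
    rw [hT, Matrix.add_apply, Matrix.add_apply, single_mul_apply_of_ne _ _ _ _ _ hik.symm, Matrix.mul_assoc,
      single_mul_apply_of_ne _ _ _ _ _ hik.symm, add_zero, zero_add]
    by_cases hb : b = i
    · rw [if_pos hb, hb, mul_single_apply_same, mul_one]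
    · rw [if_neg hb, mul_single_apply_of_ne _ _ _ _ _ hb]
  have hTs : Tᵀ = T := h1.1
  have hTk' : ∀ a, T a k = if a = i then S k j else 0 := by
    intro a
    rw [← hTk a]
    exact congrFun (congrFun hTs k) a
  have h3 : single l k 1 * T + T * single k l 1 + single l k 1 * T * single k l 1 =
      single l i (S k j) + single i l (S k j) := by
    ext a b
    rw [Matrix.add_apply, Matrix.add_apply, Matrix.add_apply, Matrix.mul_assoc]
    have e1 : (single l k 1 * T : Matrix (Fin m) (Fin m) F) a b = if a = l then (if b = i then S k j else 0) else 0 := by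
      by_cases ha : a = l
      · rw [if_pos ha, ha, single_mul_apply_same, one_mul, hTk]
      · rw [if_neg ha, single_mul_apply_of_ne _ _ _ _ _ ha]
    have e2 : (T * single k l 1 : Matrix (Fin m) (Fin m) F) a b = if b = l then (if a = i then S k j else 0) else 0 := by
      by_cases hb : b = l
      · rw [if_pos hb, hb, mul_single_apply_same, mul_one, hTk']
      · rw [if_neg hb, mul_single_apply_of_ne _ _ _ _ _ hb]
    have e3 : (single l k 1 * (T * single k l 1) : Matrix (Fin m) (Fin m) F) a b = 0 := by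
      by_cases ha : a = l
      · rw [ha, single_mul_apply_same, one_mul]
        by_cases hb : b = l
        · rw [hb, mul_single_apply_same, mul_one, hTk', if_neg hik.symm]
        · rw [mul_single_apply_of_ne _ _ _ _ _ hb]
      · rw [single_mul_apply_of_ne _ _ _ _ _ ha]
    rw [e1, e2, e3, add_zero, single_apply, single_apply]
    congr 1
    · by_cases ha : a = l
      · by_cases hb : b = i
        · rw [if_pos ha, if_pos hb, if_pos ⟨ha.symm, hb.symm⟩]
        · rw [if_pos ha, if_neg hb, if_neg fun h => hb h.2.symm]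
      · rw [if_neg ha, if_neg fun h => ha h.1.symm]
    · by_cases hb : b = l
      · by_cases ha : a = i
        · rw [if_pos hb, if_pos ha, if_pos ⟨ha.symm, hb.symm⟩]
        · rw [if_pos hb, if_neg ha, if_neg fun h => ha h.1.symm]
      · rw [if_neg hb, if_neg fun h => hb h.2.symm]
  rwa [h3] at h2

/-- the diagonal operation -/
theorem DS.diag [Finite F] {D : Set (symplecticGroup (Fin m) F)} (h : RT D) {S : Matrix (Fin m) (Fin m) F}
    (hS : DS D S) (c : Fin m → F) (hc : ∀ i, c i ≠ 0) : DS D (fun i j => (1 + c i * c j) * S i j) := by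
  have h0 : diagonal c * diagonal (fun i => (c i)⁻¹) = 1 := by
    rw [diagonal_mul_diagonal, ← diagonal_one]
    congr 1
    funext i
    exact mul_inv_cancel₀ (hc i)
  have h1 := DS.add h hS (hS.congr h _ _ h0)
  have h3 : S + diagonal c * S * (diagonal c)ᵀ = fun i j => (1 + c i * c j) * S i j := by
    ext i j
    rw [Matrix.add_apply, diagonal_transpose, mul_diagonal, diagonal_mul]
    ring
  rwa [h3] at h1

end Cfsg.Agent.H335.Symp
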